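import Groth.Agent.ShStabLib.Quot
import Groth.Agent.S7673
import Groth.Agent.S4357
import Groth.Agent.KFlat.FlatPull
import Groth.Agent.KFlat.PullTensor
import Groth.Agent.ZClosLib.CohDescent

/-!
# Hilbert polynomials and semistability along an extension of the base field
-/

universe u

open CategoryTheory CategoryTheory.Limits AlgebraicGeometry
open Groth.Agent.HilbPolyX
open scoped ZeroObject

set_option linter.style.haveILetI false

noncomputable section

namespace Groth.Agent.ShStabLib

variable {X Y : Scheme.{u}}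

theorem pullback_tensorPow (f : Y ⟶ X) (L : X.Modules) : ∀ n,
    Nonempty ((Scheme.Modules.pullback f).obj (CohB1.tensorPow L n) ≅
      CohB1.tensorPow ((Scheme.Modules.pullback f).obj L) n)
  | 0 => ⟨QCoh.pullbackUnitIso f⟩
  | n + 1 => by
    obtain ⟨e⟩ := pullback_tensorPow f L n
    exact ⟨KFlat.PullTensor.pullTensorIso f (CohB1.tensorPow L n) L ≪≫
      ProjTwist.tensCongr e (Iso.refl _)⟩

theorem isZero_of_isZero_pullback (f : Y ⟶ X) [Surjective f] {F : X.Modules} (hF : Coh.IsCoh F)
    (h : IsZero ((Scheme.Modules.pullback f).obj F)) : IsZero F := by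
  haveI : Coh.IsQCoh F := hF.1
  have hs := support_eq_empty_of_isZero h
  rw [S4357.result f F hF.2] at hs
  have he : CohB1.support F = ∅ := Function.Surjective.preimage_injective f.surjective
    (hs.trans Set.preimage_empty.symm)
  haveI : Mono (0 : F ⟶ (0 : X.Modules)) := KFlat.StalkTensor.mono_of_stalk_injective _ fun x a b _ => by
    haveI : Subsingleton (F.presheaf.stalk x) := by
      by_contra hne
      exact Set.notMem_empty x (he ▸ (show x ∈ CohB1.support F from hne))
    exact Subsingleton.elim (α := F.presheaf.stalk x) a b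
  exact IsZero.of_mono_eq_zero (0 : F ⟶ (0 : X.Modules)) rfl

variable (k : Type u) [Field k] [X.Over (Spec (CommRingCat.of k))]
variable (K : Type u) [Field K] [Algebra k K]

instance flat_bcFst : Flat (Curv2.bcFst k X K) := by
  haveI : Flat (Spec.map (CommRingCat.ofHom (algebraMap k K))) :=
    HasRingHomProperty.Spec_iff.mpr (RingHom.flat_algebraMap_iff.mpr inferInstance)
  infer_instance

instance surjective_bcFst : Surjective (Curv2.bcFst k X K) := by
  haveI : Surjective (Spec.map (CommRingCat.ofHom (algebraMap k K))) :=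
    ⟨fun y => ⟨(default : PrimeSpectrum K), Subsingleton.elim (α := PrimeSpectrum k) _ _⟩⟩
  infer_instance

theorem isHilbPoly_pullback [IsProper (X ↘ Spec (CommRingCat.of k))] {L F : X.Modules}
    (hL : PicF.IsInvertible L) (hF : Coh.IsCoh F) {P : Polynomial ℚ}
    (hP : ShStab.IsHilbPoly k X L F P) :
    letI : (Curv2.bc k X K).Over (Spec (CommRingCat.of K)) := ⟨Curv2.bcSnd k X K⟩
    ShStab.IsHilbPoly K (Curv2.bc k X K) ((Scheme.Modules.pullback (Curv2.bcFst k X K)).obj L)
      ((Scheme.Modules.pullback (Curv2.bcFst k X K)).obj F) P := by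
  intro m
  letI : (Curv2.bc k X K).Over (Spec (CommRingCat.of K)) := ⟨Curv2.bcSnd k X K⟩
  haveI : IsProper (Curv2.bc k X K ↘ Spec (CommRingCat.of K)) :=
    show IsProper (Curv2.bcSnd k X K) from inferInstance
  obtain ⟨e⟩ := pullback_tensorPow (Curv2.bcFst k X K) L m
  rw [← hP m, ← S7673.euler_pullback k X K _ (isCoh_twist k hL hF m)]
  exact congrArg _ (EulerChar.euler_iso K (ProjTwist.tensCongr (Iso.refl _) e.symm ≪≫
    (KFlat.PullTensor.pullTensorIso (Curv2.bcFst k X K) F (CohB1.tensorPow L m)).symm))

end Groth.Agent.ShStabLib
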