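import Groth.Agent.S5626
import Groth.Agent.CohAff.ResOps
import Groth.Agent.KFlat.TensorLocFree
import Groth.Agent.ExtFilt.Stalkwise

/-!
# Modules finite locally free near a point
-/

universe u

open CategoryTheory CategoryTheory.Limits AlgebraicGeometry

namespace Groth.Agent.ShStabLib

variable {X : Scheme.{u}}

/-- `M` is finite locally free on a neighbourhood of `x`. -/
def LFAt (x : X) (M : X.Modules) : Prop :=
  ∃ U : X.Opens, x ∈ U ∧ FlatMod.IsFinLocFree (M.restrict U.ι)

/-- A retract of a finite locally free module is finite locally free. -/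
theorem isFinLocFree_of_retract {M N : X.Modules} (r : Retract M N) (hN : FlatMod.IsFinLocFree N) :
    FlatMod.IsFinLocFree M := by
  have : N.IsQuasicoherent := Groth.Agent.PerfTri.Betti.isQuasicoherent_of_isFinLocFree hN
  have : M.IsQuasicoherent := by
    have hM : IsLimit (KernelFork.ofι (f := 𝟙 N - r.r ≫ r.i) r.i
        (by simp [Preadditive.comp_sub, reassoc_of% r.retract])) :=
      KernelFork.IsLimit.ofι _ _ (fun g hg => g ≫ r.r)
        (fun g hg => by
          rw [Preadditive.comp_sub, Category.comp_id, sub_eq_zero] at hg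
          rw [Category.assoc]; exact hg.symm)
        (fun g hg m hm => by rw [← hm, Category.assoc, r.retract, Category.comp_id])
    exact @Groth.Agent.QCoh.isQuasicoherent_of_iso X _ _
      ((kernelIsKernel (𝟙 N - r.r ≫ r.i)).conePointUniqueUpToIso hM)
      (Groth.Agent.QCoh.isQuasicoherent_kernel (𝟙 N - r.r ≫ r.i))
  have hstalk : ∀ x, Module.Free (X.presheaf.stalk x) (M.presheaf.stalk x) := fun x => by
    obtain ⟨hf₁, hf₂⟩ := Groth.Agent.Props.QProj.free_stalk N hN x
    have hc : (Groth.Agent.PullStalk.Exact.stalkLin r.r x).comp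
        (Groth.Agent.PullStalk.Exact.stalkLin r.i x) = LinearMap.id := LinearMap.ext fun t => by
      rw [LinearMap.comp_apply, ← Groth.Agent.CohDev.stalkLin_comp_apply, r.retract,
        Groth.Agent.CohDev.stalkLin_id_apply]
      rfl
    have : Module.Projective (X.presheaf.stalk x) (M.presheaf.stalk x) :=
      Module.Projective.of_split _ _ hc
    have : Module.Finite (X.presheaf.stalk x) (M.presheaf.stalk x) :=
      Module.Finite.of_surjective (Groth.Agent.PullStalk.Exact.stalkLin r.r x)
        fun t => ⟨_, LinearMap.congr_fun hc t⟩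
    exact Module.free_of_flat_of_isLocalRing
  refine Groth.Agent.Props.QProj.isFinLocFree_of M (fun x => ?_) hstalk
  obtain ⟨U, hU, hxU, -⟩ := exists_isAffineOpen_mem_and_subset (TopologicalSpace.Opens.mem_top x)
  refine ⟨U, hU, hxU, ?_⟩
  have hc : (Groth.Agent.CohDev.appLin r.r U).comp (Groth.Agent.CohDev.appLin r.i U) = LinearMap.id :=
    LinearMap.ext fun t => by
      change r.r.app U (r.i.app U t) = t
      rw [← ConcreteCategory.comp_apply, ← Scheme.Modules.Hom.comp_app, r.retract]
      rfl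
  have := Groth.Agent.Props.QProj.finitePresentation_sections N hN hU
  have := Groth.Agent.Props.QProj.projective_sections N hN hU
  have : Module.Projective Γ(X, U) Γ(M, U) := Module.Projective.of_split _ _ hc
  have : Module.Finite Γ(X, U) Γ(M, U) :=
    Module.Finite.of_surjective (Groth.Agent.CohDev.appLin r.r U) fun t => ⟨_, LinearMap.congr_fun hc t⟩
  exact Module.finitePresentation_of_projective _ _

theorem LFAt.of_retract {x : X} {M N : X.Modules} (r : Retract M N) (h : LFAt x N) : LFAt x M := by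
  obtain ⟨U, hx, hU⟩ := h
  exact ⟨U, hx, isFinLocFree_of_retract (r.map (Scheme.Modules.restrictFunctor U.ι)) hU⟩

theorem LFAt.of_iso {x : X} {M N : X.Modules} (e : M ≅ N) (h : LFAt x M) : LFAt x N :=
  h.of_retract (Retract.ofIso e.symm)

theorem isFinLocFree_restrict_le {M : X.Modules} {U W : X.Opens} (hWU : W ≤ U)
    (h : FlatMod.IsFinLocFree (M.restrict U.ι)) : FlatMod.IsFinLocFree (M.restrict W.ι) :=
  KFlat.LocFree.isFinLocFree_of_iso
    (((Scheme.Modules.restrictFunctorIsoPullback W.ι).app M) ≪≫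
      (Scheme.Modules.pullbackCongr (X.homOfLE_ι hWU).symm).app M ≪≫
      ((Scheme.Modules.pullbackComp (X.homOfLE hWU) U.ι).app M).symm ≪≫
      (Scheme.Modules.pullback _).mapIso ((Scheme.Modules.restrictFunctorIsoPullback U.ι).app M).symm).symm
    (KFlat.LocFree.isFinLocFree_pull (X.homOfLE hWU) h)

theorem LFAt.of_isZero {x : X} {M : X.Modules} (h : IsZero M) : LFAt x M := by
  refine ⟨⊤, trivial, fun y => ⟨⊤, 0, trivial, ⟨?_⟩⟩⟩
  have hz : IsZero (FlatMod.freeMod (↑(⊤ : ((⊤ : X.Opens) : Scheme.{u}).Opens)) 0) :=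
    (IsZero.iff_id_eq_zero _).2 (Sigma.hom_ext _ _ fun i => i.elim0)
  exact ((Scheme.Modules.restrictFunctor _).map_isZero
    ((Scheme.Modules.restrictFunctor _).map_isZero h)).iso hz

theorem LFAt.X₂ {x : X} {S : ShortComplex X.Modules} (hS : S.ShortExact) (h₁ : LFAt x S.X₁)
    (h₃ : LFAt x S.X₃) : LFAt x S.X₂ := by
  obtain ⟨U, hx, hU⟩ := h₁
  obtain ⟨U', hx', hU'⟩ := h₃
  exact ⟨U ⊓ U', ⟨hx, hx'⟩, ExtFilt.Stalkwise.isFinLocFree_X₂ (CohAff.restrict_shortExact (U ⊓ U').ι hS)
    (isFinLocFree_restrict_le inf_le_left hU) (isFinLocFree_restrict_le inf_le_right hU')⟩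

end Groth.Agent.ShStabLib
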