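import Groth.Agent.ShStabLib.HN
import Mathlib.Tactic.TFAE

/-!
# Saturation, quotient criteria for stability, maps between Harder-Narasimhan slopes
-/

universe u

open CategoryTheory CategoryTheory.Limits AlgebraicGeometry TopologicalSpace
open StabCat (alpha RedLE RedLT RedEq)
open Groth.Agent.HilbPolyX

set_option linter.style.haveILetI false

noncomputable section

namespace Groth.Agent.ShStabLib

variable {d : ℕ} {X : Scheme.{u}} {E : X.Modules}
variable (k : Type u) [Field k] [X.Over (Spec (CommRingCat.of k))]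
  [IsProper (X ↘ Spec (CommRingCat.of k))] {L : X.Modules} (hL : CohB1.IsAmple L)
  (hE : Coh.IsCoh E) (hp : ShStab.IsPure X E d)

include hL hp in
/-- Strict version of `redLE_of_a_eq`. -/
theorem redLT_of_a_eq {S T : Subobject E} (h : S < T) (hS : IsCohSub S) (hT : IsCohSub T)
    (h0 : S ≠ ⊥) (he : alpha d (hs k L S) = alpha d (hs k L T)) :
    RedLT d (hs k L S) (hs k L T) := by
  show StabCat.PolyLT _ _
  rw [← he]
  refine polyLT_smul (a_pos k hL hp hS h0) ?_
  have h1 := hilb_pos k hL (isCoh_quo h.le hS hT) (not_isZero_quo h)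
  rw [hilb_quo k hL h.le hS hT, polyLT_iff, sub_zero] at h1
  exact polyLT_iff.2 h1

include hL hE hp in
/-- The saturation: same multiplicity, pure quotient. -/
theorem exists_saturation {S : Subobject E} (hS : IsCohSub S) :
    ∃ T, S ≤ T ∧ IsCohSub T ∧ alpha d (hs k L S) = alpha d (hs k L T) ∧
      (T = ⊤ ∨ ShStab.IsPure X (cokernel T.arrow) d) := by
  haveI := EulerChar.isNoetherian k (X := X)
  haveI := wellFoundedGT_cohSub hE
  obtain ⟨T, ⟨hST, hTe⟩, hmax⟩ := (wellFounded_gt (α := {S : Subobject E // IsCohSub S})).has_min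
    {T | S ≤ T.1 ∧ alpha d (hs k L S) = alpha d (hs k L T.1)} ⟨⟨S, hS⟩, le_rfl, rfl⟩
  obtain ⟨T, hT⟩ := T
  refine ⟨T, hST, hT, hTe, or_iff_not_imp_left.2 fun hne => ?_⟩
  have htop := isCohSub_top hE
  have hd : topologicalKrullDim ↥(CohB1.support (quo (le_top : T ≤ ⊤))) ≤ (d : WithBot ℕ∞) :=
    dim_le_of_epi (cokernel.π _) (dim_sub_le hp htop)
  let e : cokernel T.arrow ≅ quo (le_top : T ≤ ⊤) :=
    (cokernel.mapIso (Subobject.ofLE T ⊤ le_top) T.arrow (Iso.refl _)
      (asIso (⊤ : Subobject E).arrow) (by simp)).symm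
  intro G ι hι hG hG0
  refine (dim_le_of_mono (ι ≫ e.hom) hd).eq_or_lt.resolve_right fun hlt => ?_
  have hlt' := lt_lift (le_top : T ≤ ⊤) (ι ≫ e.hom) hG0
  have hU := isCohSub_lift k (le_top : T ≤ ⊤) hT htop (ι ≫ e.hom) hG
  refine hmax ⟨_, hU⟩ ⟨hST.trans hlt'.le, ?_⟩ hlt'
  rw [show hs k L (lift (le_top : T ≤ ⊤) (ι ≫ e.hom)) = hs k L T + hilb k L G from
    hs_lift k hL _ hT htop _ hG, alpha_add, alpha_hilb_eq_zero k hL hG hlt, add_zero, hTe]

omit [IsProper (X ↘ Spec (CommRingCat.of k))] in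
theorem isZero_of_isIso_kernel {F G : X.Modules} (ι : F ⟶ E) (π : E ⟶ G) [IsIso π]
    (w : ι ≫ π = 0) [Mono ι] : IsZero F :=
  (IsZero.iff_id_eq_zero _).2 (by rw [← cancel_mono ι, ← cancel_mono π, Category.assoc, w]; simp)

include hL hE in
/-- From a quotient inequality to the sub inequality. -/
theorem redLE_of_quot {F : X.Modules} (ι : F ⟶ E) [Mono ι] (hF : Coh.IsCoh F) :
    (RedLE d (hilb k L E) (hilb k L (cokernel ι)) → RedLE d (hilb k L F) (hilb k L E)) ∧
      (RedLT d (hilb k L E) (hilb k L (cokernel ι)) → RedLT d (hilb k L F) (hilb k L E)) := by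
  rw [hilb_mono k hL ι hF hE]
  exact ⟨(redLE_add_left_iff _ _).2, (redLT_add_left_iff _ _).2⟩

include hL hE in
/-- `alpha` of a nonzero pure coherent module. -/
theorem alpha_pos_of_isPure (h0 : ¬ IsZero E) (hp : ShStab.IsPure X E d) :
    0 < alpha d (hilb k L E) :=
  alpha_hilb_pos k hL hE (dim_of_isPure hE h0 hp)

theorem not_isIso_cokernel_π {F : X.Modules} (ι : F ⟶ E) [Mono ι] (hF0 : ¬ IsZero F) :
    ¬ IsIso (cokernel.π ι) := fun h =>
  hF0 ((IsZero.iff_id_eq_zero _).2
    (by rw [← cancel_mono ι, ← cancel_mono (cokernel.π ι), Category.assoc, cokernel.condition]; simp))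

include hL hE hp in
theorem isSemistable_tfae (h0 : ¬ IsZero E) :
    [ShStab.IsSemistable k X L E d,
      ∀ (F : X.Modules) (ι : F ⟶ E), Mono ι → Coh.IsCoh F → ¬ IsZero F → ¬ IsIso ι →
        ShStab.IsPure X (cokernel ι) d →
        ∀ (pF pE : Polynomial ℚ), ShStab.IsHilbPoly k X L F pF → ShStab.IsHilbPoly k X L E pE →
          StabCat.RedLE d pF pE,
      ∀ (G : X.Modules) (π : E ⟶ G), Epi π → Coh.IsCoh G → ¬ IsIso π →
        ∀ (pE pG : Polynomial ℚ), ShStab.IsHilbPoly k X L E pE → ShStab.IsHilbPoly k X L G pG →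
          0 < StabCat.alpha d pG → StabCat.RedLE d pE pG,
      ∀ (G : X.Modules) (π : E ⟶ G), Epi π → Coh.IsCoh G → ¬ IsZero G → ¬ IsIso π →
        ShStab.IsPure X G d →
        ∀ (pE pG : Polynomial ℚ), ShStab.IsHilbPoly k X L E pE → ShStab.IsHilbPoly k X L G pG →
          StabCat.RedLE d pE pG].TFAE := by
  tfae_have 1 → 3 := fun hss G π _ hG _ pE pG hpE hpG hpos => by
    rw [eq_hilb k hL hG hpG] at hpos
    rw [eq_hilb k hL hE hpE, eq_hilb k hL hG hpG]
    refine redLE_of_epi_isSemistable k hL hss π hG fun hz => ?_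
    rw [hilb_eq_zero_of_isZero k hL hz] at hpos
    simp [alpha] at hpos
  tfae_have 3 → 4 := fun h G π hπ hG hG0 hi hGp pE pG hpE hpG =>
    h G π hπ hG hi pE pG hpE hpG (by
      rw [eq_hilb k hL hG hpG]; exact alpha_pos_of_isPure k hL hG hG0 hGp)
  tfae_have 4 → 2 := fun h F ι _ hF hF0 hi hC pF pE hpF hpE => by
    rw [eq_hilb k hL hF hpF, eq_hilb k hL hE hpE]
    have hCc := isCoh_of_monoCokernel ι hF hE
    exact (redLE_of_quot k hL hE ι hF).1 (h _ (cokernel.π ι) inferInstance hCc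
      (fun hz => hi (isIso_of_mono_of_cokernel ι hz)) (not_isIso_cokernel_π ι hF0) hC _ _
      (isHilbPoly_hilb k hL hE) (isHilbPoly_hilb k hL hCc))
  tfae_have 2 → 1 := fun h => ⟨hE, h0, hp, fun F ι _ hF hF0 hi pF pE hpF hpE => by
    rw [eq_hilb k hL hF hpF, eq_hilb k hL hE hpE, ← hs_mk k hL ι hF, ← hs_top k hL hE]
    have hS := isCohSub_mk ι hF
    obtain ⟨T, hST, hT, hTe, hsat⟩ := exists_saturation k hL hE hp hS
    have hle := redLE_of_a_eq k hL hp hST hS hT hTe
    rcases hsat with rfl | hsat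
    · exact hle
    by_cases hne : T = ⊤
    · subst hne; exact hle
    have hT0 : T ≠ ⊥ := fun e => hF0 (by
      have := le_bot_iff.1 (hST.trans_eq e)
      exact (isZero_bot (E := E)).of_iso
        ((Subobject.underlyingIso ι).symm ≪≫ Subobject.isoOfEq _ _ this))
    have h2 := h _ T.arrow inferInstance hT (fun hz => hT0 (eq_bot_of_isZero hz))
      (fun hiso => hne (Subobject.eq_top_of_isIso_arrow T)) hsat _ _
      (isHilbPoly_hilb k hL hT) (isHilbPoly_hilb k hL hE)
    rw [← hs_top k hL hE] at h2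
    exact redLE_trans (a_nonneg k hL hp hS) (a_pos k hL hp hT hT0)
      (a_nonneg k hL hp (isCohSub_top hE)) hle h2⟩
  tfae_finish

include hL hE hp in
theorem isStable_tfae (h0 : ¬ IsZero E) :
    [ShStab.IsStable k X L E d,
      ∀ (F : X.Modules) (ι : F ⟶ E), Mono ι → Coh.IsCoh F → ¬ IsZero F → ¬ IsIso ι →
        ShStab.IsPure X (cokernel ι) d →
        ∀ (pF pE : Polynomial ℚ), ShStab.IsHilbPoly k X L F pF → ShStab.IsHilbPoly k X L E pE →
          StabCat.RedLT d pF pE,
      ∀ (G : X.Modules) (π : E ⟶ G), Epi π → Coh.IsCoh G → ¬ IsIso π →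
        ∀ (pE pG : Polynomial ℚ), ShStab.IsHilbPoly k X L E pE → ShStab.IsHilbPoly k X L G pG →
          0 < StabCat.alpha d pG → StabCat.RedLT d pE pG,
      ∀ (G : X.Modules) (π : E ⟶ G), Epi π → Coh.IsCoh G → ¬ IsZero G → ¬ IsIso π →
        ShStab.IsPure X G d →
        ∀ (pE pG : Polynomial ℚ), ShStab.IsHilbPoly k X L E pE → ShStab.IsHilbPoly k X L G pG →
          StabCat.RedLT d pE pG].TFAE := by
  tfae_have 1 → 3 := fun hss G π _ hG hi pE pG hpE hpG hpos => by
    rw [eq_hilb k hL hG hpG] at hpos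
    rw [eq_hilb k hL hE hpE, eq_hilb k hL hG hpG]
    refine redLT_of_epi_isStable k hL hss π hG (fun hz => ?_) hi
    rw [hilb_eq_zero_of_isZero k hL hz] at hpos
    simp [alpha] at hpos
  tfae_have 3 → 4 := fun h G π hπ hG hG0 hi hGp pE pG hpE hpG =>
    h G π hπ hG hi pE pG hpE hpG (by
      rw [eq_hilb k hL hG hpG]; exact alpha_pos_of_isPure k hL hG hG0 hGp)
  tfae_have 4 → 2 := fun h F ι _ hF hF0 hi hC pF pE hpF hpE => by
    rw [eq_hilb k hL hF hpF, eq_hilb k hL hE hpE]
    have hCc := isCoh_of_monoCokernel ι hF hE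
    exact (redLE_of_quot k hL hE ι hF).2 (h _ (cokernel.π ι) inferInstance hCc
      (fun hz => hi (isIso_of_mono_of_cokernel ι hz)) (not_isIso_cokernel_π ι hF0) hC _ _
      (isHilbPoly_hilb k hL hE) (isHilbPoly_hilb k hL hCc))
  tfae_have 2 → 1 := fun h => ⟨hE, h0, hp, fun F ι _ hF hF0 hi pF pE hpF hpE => by
    rw [eq_hilb k hL hF hpF, eq_hilb k hL hE hpE, ← hs_mk k hL ι hF, ← hs_top k hL hE]
    have hS := isCohSub_mk ι hF
    obtain ⟨T, hST, hT, hTe, hsat⟩ := exists_saturation k hL hE hp hS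
    have hS0 : Subobject.mk ι ≠ ⊥ := fun e => hF0
      ((isZero_bot (E := E)).of_iso
        ((Subobject.underlyingIso ι).symm ≪≫ Subobject.isoOfEq _ _ e))
    have hlt : Subobject.mk ι < ⊤ := lt_top_iff_ne_top.2 fun e =>
      hi (Subobject.isIso_iff_mk_eq_top ι |>.2 e)
    by_cases hne : T = ⊤
    · subst hne
      exact redLT_of_a_eq k hL hp hlt hS hT hS0 hTe
    have hT0 : T ≠ ⊥ := fun e => hS0 (le_bot_iff.1 (hST.trans_eq e))
    have h2 := h _ T.arrow inferInstance hT (fun hz => hT0 (eq_bot_of_isZero hz))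
      (fun hiso => hne (Subobject.eq_top_of_isIso_arrow T)) (hsat.resolve_left hne) _ _
      (isHilbPoly_hilb k hL hT) (isHilbPoly_hilb k hL hE)
    rw [← hs_top k hL hE] at h2
    exact redLT_of_le_of_lt (a_pos k hL hp hS hS0) (a_pos k hL hp hT hT0)
      (a_nonneg k hL hp (isCohSub_top hE)) (redLE_of_a_eq k hL hp hST hS hT hTe) h2⟩
  tfae_finish

include hL in
/-- No nonzero maps when the smallest slope of the source beats the largest of the target. -/
theorem hom_eq_zero {F G : X.Modules} (hG : Coh.IsCoh G)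
    (hGp : ShStab.IsPure X G d)
    {s : LTSeries (Subobject F)} (hs : ShStab.IsHNFiltration k X L F d s)
    {t : LTSeries (Subobject G)} (ht : ShStab.IsHNFiltration k X L G d t)
    (i : Fin s.length) (hi : i.val + 1 = s.length) (j : Fin t.length) (hj : j.val = 0)
    (hlt : RedLT d (hilb k L (StabCat.factor t j)) (hilb k L (StabCat.factor s i)))
    (φ : F ⟶ G) : φ = 0 := by
  obtain ⟨hsc, hsC⟩ := hnChain_of_isHN k hL hs
  obtain ⟨htc, htC⟩ := hnChain_of_isHN k hL ht
  have hj0 : t j.castSucc = ⊥ := by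
    rw [show j.castSucc = (0 : Fin (t.length + 1)) from Fin.ext hj]
    exact ht.1
  obtain ⟨-, -, hmax⟩ := maxAt_step k hL hG t htc htC ht.2.1 j
  rw [show hilb k L (StabCat.factor s i) = hilb k L (quo (s.step i).le) from rfl,
    show hilb k L (StabCat.factor t j) = hilb k L (quo (t.step j).le) from rfl,
    hilb_quo k hL (t.step j).le (htC _) (htC _), hilb_quo k hL (s.step i).le (hsC _) (hsC _)] at hlt
  have hps := fun i : Fin s.length =>
    alpha_pd_pos k hL (s.step i).le (hsC _) (hsC _) (hsc.1 i (s.step i).le)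
  have key : ∀ n : Fin (s.length + 1), (s n).arrow ≫ φ = 0 := by
    intro n
    induction n using Fin.induction with
    | zero => exact (show s 0 = ⊥ from hs.1) ▸ (isZero_bot (E := F)).eq_of_src _ _
    | succ a ih =>
      by_contra hne
      let ψ : quo (s.step a).le ⟶ G := cokernel.desc _ ((s a.succ).arrow ≫ φ)
        (by rw [Subobject.ofLE_arrow_assoc]; exact ih)
      have hψ : ψ ≠ 0 := fun e => hne (by
        rw [← cokernel.π_desc _ _ (show Subobject.ofLE _ _ (s.step a).le ≫ (s a.succ).arrow ≫ φ = 0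
          by rw [Subobject.ofLE_arrow_assoc]; exact ih)]
        exact (congrArg (cokernel.π _ ≫ ·) e).trans comp_zero)
      have hQ := hsc.1 a (s.step a).le
      obtain ⟨I, p, q, _, _, hI, hI0, -⟩ := exists_image_of_ne_zero k ψ hψ hQ.1 hG
      have h1 := redLE_of_epi_isSemistable k hL hQ p hI hI0
      rw [hilb_quo k hL (s.step a).le (hsC _) (hsC _)] at h1
      have hU := isCohSub_mk q hI
      have hU0 : Subobject.mk q ≠ ⊥ := fun e => hI0
        ((isZero_bot (E := G)).of_iso
          ((Subobject.underlyingIso q).symm ≪≫ Subobject.isoOfEq _ _ e))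
      have h2 := (hmax _ hU (hj0 ▸ bot_lt_iff_ne_bot.2 hU0)).1
      have hpd : pd k L (t j.castSucc) (Subobject.mk q) = hilb k L I := by
        rw [pd, hj0, hs_bot k hL, sub_zero, hs_mk k hL q hI]
      rw [hpd] at h2
      have haI : 0 < alpha d (hilb k L I) :=
        alpha_pos_of_isPure k hL hI hI0 (isPure_of_mono hGp q)
      have hpj := alpha_pd_pos k hL (t.step j).le (htC _) (htC _) (htc.1 j (t.step j).le)
      have h3 := redLT_of_le_of_lt (hps a) hpj (hps i).le
        (redLE_trans (hps a).le haI hpj.le h1 h2) hlt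
      have h4 : RedLE d (pd k L (s i.castSucc) (s i.succ)) (pd k L (s a.castSucc) (s a.succ)) := by
        rcases (show a.val < i.val ∨ a.val = i.val by omega) with h | h
        · exact redLE_of_lt (slope_mono k hL s hsc hsC a i h)
        · rw [Fin.ext h]; exact redLE_refl d _
      exact not_redLT_of_le h4 h3
  have h := key (Fin.last _)
  rw [show s (Fin.last _) = ⊤ from hs.2.1] at h
  rwa [← cancel_epi (⊤ : Subobject F).arrow, comp_zero]

end Groth.Agent.ShStabLib
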