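import Groth.Agent.ShStabLib.HN
import Groth.Agent.ProjTwist.Pn.TopCohom
import Groth.Prelude.Def_W4c2simpsonmod1HP

/-!
# Hilbert polynomials over all integers on projective space; finite chains as series
-/

universe u

open CategoryTheory CategoryTheory.Limits AlgebraicGeometry
open Groth.Agent.HilbPolyX Groth.Agent.ProjTwist.Pn

noncomputable section

namespace Groth.Agent.ShStabLib.PnBridge

variable {n : ℕ} {k : Type u} [Field k]

/-- The Hilbert polynomial with respect to `O(1)`. -/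
abbrev hp (F : (CohB1.ProjSpace n k).Modules) : Polynomial ℚ :=
  hilb k (Twist.twistProjSpace n k 1) F

theorem euler_eq (F : (CohB1.ProjSpace n k).Modules) (hF : Coh.IsCoh F) (m : ℤ) :
    (Curv2.euler k (CohB1.ProjSpace n k) (CohB1.tensorMod F (Twist.twistProjSpace n k m)) : ℚ) =
      (hp F).eval (m : ℚ) := by
  have : IsProper (CohB1.ProjSpace n k ↘ Spec (CommRingCat.of k)) := ProjProper.Basic.isProper_toSpec n k
  obtain ⟨P, hP, hneg⟩ := exists_chi_poly hF
  rw [show hp F = P from (eq_hilb k isAmple_one hF hP).symm]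
  obtain ⟨a, rfl | rfl⟩ := m.eq_nat_or_neg
  · exact_mod_cast chi_eq_hilb hP a
  · exact_mod_cast hneg a

theorem eq_hp {F : (CohB1.ProjSpace n k).Modules} (hF : Coh.IsCoh F) {P : Polynomial ℚ}
    (hP : ∀ m : ℤ, (Curv2.euler k (CohB1.ProjSpace n k)
      (CohB1.tensorMod F (Twist.twistProjSpace n k m)) : ℚ) = P.eval (m : ℚ)) : P = hp F :=
  HilbPolyX.poly_ext fun m => by
    have h := (hP m).symm.trans (euler_eq F hF m)
    exact_mod_cast h

theorem redLE_iff {d : ℕ} {P Q : Polynomial ℚ} (hP : 0 < StabCat.alpha d P) (hQ : 0 < StabCat.alpha d Q) :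
    W4c2simpsonmod1.RedLE d P Q ↔ StabCat.RedLE d P Q := by
  have key : ∀ x y : ℚ, x / StabCat.alpha d P ≤ y / StabCat.alpha d Q ↔
      StabCat.alpha d Q * x ≤ StabCat.alpha d P * y := fun x y => by
    rw [div_le_div_iff₀ hP hQ, mul_comm x, mul_comm y]
  constructor
  · rintro ⟨N, hN⟩
    refine ⟨N.toNat, fun m hm => ?_⟩
    simp only [Polynomial.eval_smul, smul_eq_mul]
    exact (key _ _).1 (by exact_mod_cast hN (m : ℤ) (by omega))
  · rintro ⟨N, hN⟩
    refine ⟨N, fun m hm => ?_⟩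
    obtain ⟨a, rfl⟩ : ∃ a : ℕ, m = a := ⟨m.toNat, by omega⟩
    have h := hN a (by omega)
    simp only [Polynomial.eval_smul, smul_eq_mul] at h
    exact_mod_cast (key _ _).2 h

theorem redLT_iff {d : ℕ} {P Q : Polynomial ℚ} (hP : 0 < StabCat.alpha d P) (hQ : 0 < StabCat.alpha d Q) :
    W4c2simpsonmod1.RedLT d P Q ↔ StabCat.RedLT d P Q := by
  have key : ∀ x y : ℚ, x / StabCat.alpha d P < y / StabCat.alpha d Q ↔
      StabCat.alpha d Q * x < StabCat.alpha d P * y := fun x y => by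
    rw [div_lt_div_iff₀ hP hQ, mul_comm x, mul_comm y]
  constructor
  · rintro ⟨N, hN⟩
    refine ⟨N.toNat, fun m hm => ?_⟩
    simp only [Polynomial.eval_smul, smul_eq_mul]
    exact (key _ _).1 (by exact_mod_cast hN (m : ℤ) (by omega))
  · rintro ⟨N, hN⟩
    refine ⟨N, fun m hm => ?_⟩
    obtain ⟨a, rfl⟩ : ∃ a : ℕ, m = a := ⟨m.toNat, by omega⟩
    have h := hN a (by omega)
    simp only [Polynomial.eval_smul, smul_eq_mul] at h
    exact_mod_cast (key _ _).2 h

open Classical in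
/-- A finite chain containing the bottom and top elements is the image of a strictly increasing series. -/
theorem exists_series {α : Type*} [PartialOrder α] [BoundedOrder α] (C : Finset α) (hb : ⊥ ∈ C) (ht : ⊤ ∈ C)
    (hC : IsChain (fun A B : α => A ≤ B) (↑C : Set α)) :
    ∃ s : LTSeries α, s.head = ⊥ ∧ s.last = ⊤ ∧ Finset.univ.image s.toFun = C ∧
      ∀ i : Fin s.length, ∀ D ∈ C, ¬ (s i.castSucc < D ∧ D < s i.succ) := by
  let : LinearOrder ↥C :=
    { (inferInstance : PartialOrder ↥C) with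
      le_total := fun a b => (Classical.em (a = b)).elim (fun h => Or.inl h.le) fun h =>
        hC a.2 b.2 fun h' => h (Subtype.ext h')
      toDecidableLE := Classical.decRel _ }
  obtain ⟨m, hm⟩ : ∃ m, Fintype.card ↥C = m + 1 :=
    Nat.exists_eq_succ_of_ne_zero (@Fintype.card_ne_zero ↥C _ ⟨⟨⊥, hb⟩⟩)
  let e : Fin (m + 1) ≃o ↥C := (monoEquivOfFin ↥C hm)
  have hlt : ∀ {i j : Fin (m + 1)}, (e i : α) < (e j : α) ↔ i < j := fun {i j} => e.lt_iff_lt
  have hle : ∀ {i j : Fin (m + 1)}, i ≤ j → (e i : α) ≤ (e j : α) := fun {i j} h => e.monotone h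
  refine ⟨⟨m, fun i => (e i : α), fun i => hlt.2 Fin.castSucc_lt_succ⟩, ?_, ?_, ?_, fun i D hD h => ?_⟩
  · exact le_bot_iff.1 ((hle (Fin.zero_le (e.symm ⟨⊥, hb⟩))).trans_eq (congrArg Subtype.val (e.apply_symm_apply _)))
  · exact top_le_iff.1 ((congrArg Subtype.val (e.apply_symm_apply (⟨⊤, ht⟩ : ↥C))).ge.trans (hle (Fin.le_last _)))
  · ext D
    simp only [Finset.mem_image, Finset.mem_univ, true_and]
    exact ⟨fun ⟨i, hi⟩ => hi ▸ (e i).2, fun h => ⟨e.symm ⟨D, h⟩, congrArg Subtype.val (e.apply_symm_apply _)⟩⟩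
  · have hD' : (e (e.symm ⟨D, hD⟩) : α) = D := congrArg Subtype.val (e.apply_symm_apply _)
    rw [← hD'] at h
    have h1 := hlt.1 h.1
    have h2 := hlt.1 h.2
    rw [Fin.lt_def, Fin.val_castSucc] at h1
    rw [Fin.lt_def, Fin.val_succ] at h2
    omega

/-- In a strictly increasing series the covering pairs are the steps. -/
theorem exists_step {α : Type*} [PartialOrder α] [DecidableEq α] (s : LTSeries α) {A B : α}
    (hA : A ∈ Finset.univ.image s.toFun) (hB : B ∈ Finset.univ.image s.toFun) (h : A < B)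
    (hcov : ∀ D ∈ Finset.univ.image s.toFun, ¬ (A < D ∧ D < B)) :
    ∃ i : Fin s.length, s i.castSucc = A ∧ s i.succ = B := by
  simp only [Finset.mem_image, Finset.mem_univ, true_and] at hA hB
  obtain ⟨i, rfl⟩ := hA
  obtain ⟨j, rfl⟩ := hB
  have hij : i < j := s.strictMono.lt_iff_lt.1 h
  have hj : j.val = i.val + 1 := by
    by_contra hne
    have hi' : i.val + 1 < s.length + 1 := by omega
    refine hcov (s ⟨i.val + 1, hi'⟩) (Finset.mem_image_of_mem _ (Finset.mem_univ _))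
      ⟨s.strictMono ?_, s.strictMono ?_⟩ <;> rw [Fin.lt_def] <;> simp only <;> omega
  exact ⟨⟨i.val, by omega⟩, rfl, congrArg s.toFun (Fin.ext hj.symm)⟩

end Groth.Agent.ShStabLib.PnBridge
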