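import Groth.Agent.LinSerLib.RatPoint
import Groth.Agent.VBLib.Simple
import Groth.Agent.FDesc.QuasiFlat
import Groth.Agent.CohDev.Key
import Mathlib.RingTheory.Nakayama
import Groth.Agent.CycLib.ModStalk

/-!
# Endomorphisms of coherent modules over an algebraically closed field have eigenvalues
-/

universe u

open CategoryTheory CategoryTheory.Limits AlgebraicGeometry
open Groth.Agent.PullStalk.Sky Groth.Agent.PullStalk.Exact

namespace Groth.Agent.ShStabLib

variable {k : Type u} [Field k] [IsAlgClosed k] {X : Scheme.{u}} [X.Over (Spec (CommRingCat.of k))]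

/-- An endomorphism of a nonzero coherent module on a scheme of finite type over an algebraically closed
field stops being an isomorphism after subtracting a suitable scalar. -/
theorem exists_not_isIso_sub_smul [CompactSpace X] [IsLocallyNoetherian X]
    [LocallyOfFiniteType (X ↘ Spec (CommRingCat.of k))] {E : X.Modules} (hE : Coh.IsCoh E)
    (x₁ : X) (hx₁ : Nontrivial (E.presheaf.stalk x₁)) (φ : E ⟶ E) :
    ∃ c : k, ¬ IsIso (φ - c • 𝟙 E) := by
  have := hE.1
  have hcl : IsClosed {x : X | Nontrivial (E.presheaf.stalk x)} := CycLib.isClosed_support E hE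
  obtain ⟨x₀, hx₀S, hx₀⟩ := hcl.exists_closed_singleton ⟨x₁, hx₁⟩
  let p := pointOfClosedPoint (X ↘ Spec (CommRingCat.of k)) x₀ hx₀
  have hpx : p (IsLocalRing.closedPoint k) = x₀ := by simp [p]
  let x := p (IsLocalRing.closedPoint k)
  have hnt : Nontrivial (E.presheaf.stalk x) := by
    show x ∈ {x : X | Nontrivial (E.presheaf.stalk x)}
    rw [show x = x₀ from hpx]
    exact hx₀S
  let R := X.presheaf.stalk x
  let M := E.presheaf.stalk x
  have : Module.Finite R M := FDesc.QuasiFlat.finite_stalk_of_isCoh E hE x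
  have hglob : ∀ c : k, LinSerLib.chi p
      (X.presheaf.germ ⊤ x trivial (Coh.toGlobal (X ↘ Spec (CommRingCat.of k)) c)) = c :=
    fun c => LinSerLib.chi_global p (pointOfClosedPoint_comp _ x₀ hx₀) c
  have hsurj : Function.Surjective (LinSerLib.chi p) := fun c => ⟨_, hglob c⟩
  let m := IsLocalRing.maximalIdeal R
  have hker : RingHom.ker (LinSerLib.chi p) = m :=
    IsLocalRing.eq_maximalIdeal (RingHom.ker_isMaximal_of_surjective _ hsurj)
  letI : Field (R ⧸ m) := Ideal.Quotient.field m
  let e : k ≃+* (R ⧸ m) :=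
    ((Ideal.quotEquivOfEq hker.symm).trans (RingHom.quotientKerEquivOfSurjective hsurj)).symm
  have : IsAlgClosed (R ⧸ m) := IsAlgClosed.of_ringEquiv k (R ⧸ m) e
  let N : Submodule R M := m • ⊤
  have : Nontrivial (M ⧸ N) := Submodule.Quotient.nontrivial_iff.mpr
    (Submodule.top_ne_ideal_smul_of_le_jacobson_annihilator
      (IsLocalRing.maximalIdeal_le_jacobson _)).symm
  have : Module.Finite R (M ⧸ N) := inferInstance
  have : Module.Finite (R ⧸ m) (M ⧸ N) :=
    Module.Finite.of_restrictScalars_finite R (R ⧸ m) (M ⧸ N)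
  let f := stalkLin φ x
  have hfN : N ≤ N.comap f := by
    refine Submodule.smul_le.2 fun r hr t _ => ?_
    show f (r • t) ∈ N
    rw [map_smul]
    exact Submodule.smul_mem_smul hr Submodule.mem_top
  let fb : Module.End (R ⧸ m) (M ⧸ N) :=
    { toFun := N.mapQ N f hfN
      map_add' := map_add _
      map_smul' := fun a v => by
        obtain ⟨a, rfl⟩ := Ideal.Quotient.mk_surjective a
        exact map_smul (N.mapQ N f hfN) a v }
  obtain ⟨μ, hμ⟩ := Module.End.exists_eigenvalue fb
  obtain ⟨v, hv⟩ := hμ.exists_hasEigenvector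
  let c := e.symm μ
  let γ : R := X.presheaf.germ ⊤ x trivial (Coh.toGlobal (X ↘ Spec (CommRingCat.of k)) c)
  have hγ : Ideal.Quotient.mk m γ = μ := by
    apply e.symm.injective
    show (RingHom.quotientKerEquivOfSurjective hsurj) (Ideal.quotEquivOfEq hker.symm
      (Ideal.Quotient.mk m γ)) = c
    rw [Ideal.quotEquivOfEq_mk, RingHom.quotientKerEquivOfSurjective_apply_mk]
    exact hglob c
  refine ⟨c, fun hiso => ?_⟩
  let g := stalkLin (φ - c • 𝟙 E) x
  have hgs : Function.Surjective g := fun t => by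
    refine ⟨stalkLin (inv (φ - c • 𝟙 E)) x t, ?_⟩
    rw [← Groth.Agent.CohDev.stalkLin_comp_apply, IsIso.inv_hom_id]
    exact Groth.Agent.CohDev.stalkLin_id_apply _ _
  have hg : ∀ t, g t = f t - γ • t := fun t => VBLib.stalkLin_sub_smul_apply φ c x t
  have hs : Function.Surjective (fb - μ • 1 : Module.End (R ⧸ m) (M ⧸ N)) := fun w => by
    obtain ⟨t, rfl⟩ := N.mkQ_surjective w
    obtain ⟨s, rfl⟩ := hgs t
    refine ⟨N.mkQ s, ?_⟩
    rw [hg, map_sub, map_smul, LinearMap.sub_apply, LinearMap.smul_apply, Module.End.one_apply, ← hγ]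
    rfl
  have hi := LinearMap.injective_iff_surjective.mpr hs
  refine hv.2 (hi ?_)
  rw [map_zero, LinearMap.sub_apply, LinearMap.smul_apply, Module.End.one_apply, hv.apply_eq_smul, sub_self]

end Groth.Agent.ShStabLib
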