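import Groth.Agent.ShStabLib.MaxDestab

/-!
# The Harder-Narasimhan filtration

Existence by ascending chain condition from the maximal destabilising submodule of `E/S`; uniqueness
because the first step of any such filtration is the maximal destabilising one.
-/

universe u

open CategoryTheory CategoryTheory.Limits AlgebraicGeometry TopologicalSpace
open StabCat (alpha RedLE RedLT RedEq)
open Groth.Agent.HilbPolyX
open Groth.Agent.CohDerLib.SubobjJH (second_iso)

set_option linter.style.haveILetI false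

noncomputable section

namespace Groth.Agent.ShStabLib

variable {d : ℕ}

/-- Seesaw with the larger piece first. -/
theorem redLT_sum_iff (P Q : Polynomial ℚ) : RedLT d (P + Q) P ↔ RedLT d Q P := by
  unfold RedLT StabCat.PolyLT
  simp only [alpha_add, Polynomial.eval_smul, smul_eq_mul, Polynomial.eval_add]
  constructor <;> rintro ⟨N, hN⟩ <;> refine ⟨N, fun m hm => ?_⟩ <;> nlinarith [hN m hm]

theorem redLE_sum {P Q R : Polynomial ℚ} (h : RedLE d P R) (h' : RedLE d Q R) :
    RedLE d (P + Q) R := by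
  obtain ⟨N, hN⟩ := h
  obtain ⟨M, hM⟩ := h'
  refine ⟨max N M, fun m hm => ?_⟩
  have h1 := hN m (le_of_max_le_left hm)
  have h2 := hM m (le_of_max_le_right hm)
  simp only [alpha_add, Polynomial.eval_smul, smul_eq_mul, Polynomial.eval_add] at h1 h2 ⊢
  linarith

theorem redLT_sum {P Q R : Polynomial ℚ} (h : RedLE d P R) (h' : RedLT d Q R) :
    RedLT d (P + Q) R := by
  obtain ⟨N, hN⟩ := h
  obtain ⟨M, hM⟩ := h'
  refine ⟨max N M, fun m hm => ?_⟩
  have h1 := hN m (le_of_max_le_left hm)
  have h2 := hM m (le_of_max_le_right hm)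
  simp only [alpha_add, Polynomial.eval_smul, smul_eq_mul, Polynomial.eval_add] at h1 h2 ⊢
  linarith

variable {X : Scheme.{u}} {E : X.Modules}
variable (k : Type u) [Field k] [X.Over (Spec (CommRingCat.of k))]
  [IsProper (X ↘ Spec (CommRingCat.of k))] {L : X.Modules} (hL : CohB1.IsAmple L)

/-- The Hilbert polynomial of `T/S`, as a difference. -/
abbrev pd (L : X.Modules) (S T : Subobject E) : Polynomial ℚ := hs k L T - hs k L S

omit [IsProper (X ↘ Spec (CommRingCat.of k))] in
theorem pd_add (S U T : Subobject E) : pd k L S T = pd k L S U + pd k L U T := by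
  simp only [pd]; ring

/-- `T` is the maximal destabilising step above `S`. -/
def MaxAt (L : X.Modules) (d : ℕ) (S T : Subobject E) : Prop :=
  S < T ∧ IsCohSub T ∧ ∀ U : Subobject E, IsCohSub U → S < U →
    RedLE d (pd k L S U) (pd k L S T) ∧ (RedEq d (pd k L S U) (pd k L S T) → U ≤ T)

theorem MaxAt.unique {S T T' : Subobject E} (h : MaxAt k L d S T) (h' : MaxAt k L d S T') :
    T = T' :=
  le_antisymm
    ((h'.2.2 T h.2.1 h.1).2 (redEq_of_le_of_le (h'.2.2 T h.2.1 h.1).1 (h.2.2 T' h'.2.1 h'.1).1))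
    ((h.2.2 T' h'.2.1 h'.1).2 (redEq_of_le_of_le (h.2.2 T' h'.2.1 h'.1).1 (h'.2.2 T h.2.1 h.1).1))

omit [Field k] [X.Over (Spec (CommRingCat.of k))] [IsProper (X ↘ Spec (CommRingCat.of k))] in
theorem not_isZero_quo {S T : Subobject E} (h : S < T) : ¬ IsZero (quo h.le) :=
  fun hz => h.ne ((isZero_quo_iff h.le).1 hz)

omit [Field k] [X.Over (Spec (CommRingCat.of k))] [IsProper (X ↘ Spec (CommRingCat.of k))] in
theorem lt_lift {S T : Subobject E} (h : S ≤ T) {G : X.Modules} (ι : G ⟶ quo h) [Mono ι]
    (hG0 : ¬ IsZero G) : S < lift h ι := by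
  refine lt_of_le_of_ne (le_lift h ι) fun e => hG0 ?_
  -- the preimage of a nonzero submodule is not `S`
  have hι : ι = 0 := by
    obtain ⟨W, p, hp, t, ht⟩ := surjective_up_to_refinements_of_epi
      (cokernel.π (Subobject.ofLE S T h)) ι
    have h1 : (t ≫ cokernel.π (Subobject.ofLE S T h)) ≫ cokernel.π ι = 0 := by
      rw [← ht, Category.assoc, cokernel.condition, comp_zero]
    have h2 : (lift h ι).Factors (t ≫ T.arrow) := (Subobject.mk_factors_iff _ _).2
      ⟨kernel.lift _ t (by rw [← Category.assoc]; exact h1), kernel.lift_ι_assoc _ _ _ _⟩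
    rw [← e, ← CohDerLib.SubobjJH.comp_π_eq_zero_iff h, ← ht] at h2
    rwa [← cancel_epi p, comp_zero]
  exact (IsZero.iff_id_eq_zero _).2 (by rw [← cancel_mono ι, hι, comp_zero, comp_zero])

include hL in
theorem hilb_lift_sub {S T : Subobject E} (h : S ≤ T) (hS : IsCohSub S) (hT : IsCohSub T)
    {G : X.Modules} (ι : G ⟶ quo h) [Mono ι] (hG : Coh.IsCoh G) :
    pd k L S (lift h ι) = hilb k L G := by
  rw [pd, hs_lift k hL h hS hT ι hG]; ring

variable (hE : Coh.IsCoh E)

include hL hE in
theorem exists_maxAt {S : Subobject E} (hS : IsCohSub S) (hne : S ≠ ⊤)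
    (hp : ShStab.IsPure X (quo (le_top : S ≤ ⊤)) d) :
    ∃ T, MaxAt k L d S T := by
  have htop := isCohSub_top hE
  have hlt : S < ⊤ := hne.lt_top
  have hQ := isCoh_quo (le_top : S ≤ ⊤) hS htop
  obtain ⟨F, hFc, hF0, hmax⟩ := exists_maxDestab k hL hQ hp (not_isZero_quo hlt)
  have hF0' : ¬ IsZero (F : X.Modules) := fun hz => hF0 (eq_bot_of_isZero hz)
  refine ⟨lift le_top F.arrow, lt_lift le_top F.arrow hF0',
    isCohSub_lift k le_top hS htop F.arrow hFc, fun U hU hSU => ?_⟩
  let κ : quo hSU.le ⟶ quo (le_top : S ≤ ⊤) := quoMap hSU.le (le_top : U ≤ ⊤)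
  haveI : Mono κ := mono_quoMap _ _
  have hUc := isCoh_quo hSU.le hS hU
  have hne' : Subobject.mk κ ≠ ⊥ := fun e => not_isZero_quo hSU
    ((isZero_bot (E := quo (le_top : S ≤ ⊤))).of_iso
      ((Subobject.underlyingIso κ).symm ≪≫ Subobject.isoOfEq _ _ e))
  obtain ⟨h1, h2⟩ := hmax _ (isCohSub_mk κ hUc) hne'
  rw [hs_mk k hL κ hUc, hilb_quo k hL hSU.le hS hU,
    show hs k L F = pd k L S (lift le_top F.arrow) from
      (hilb_lift_sub k hL le_top hS htop F.arrow hFc).symm] at h1 h2
  refine ⟨h1, fun he => ?_⟩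
  have hle := h2 he
  refine Subobject.le_mk_of_comm (kernel.lift _ (Subobject.ofLE U ⊤ le_top) ?_) ?_
  · have hfac : cokernel.π (Subobject.ofLE S U hSU.le) ≫ κ =
        Subobject.ofLE U ⊤ le_top ≫ cokernel.π (Subobject.ofLE S ⊤ le_top) :=
      cokernel.π_desc _ _ _
    rw [← Category.assoc, ← hfac, ← Subobject.ofMkLE_arrow hle, Category.assoc, Category.assoc,
      cokernel.condition, comp_zero, comp_zero]
  · rw [kernel.lift_ι_assoc, Subobject.ofLE_arrow]

include hL in
/-- The step of a maximal destabilising element is semistable. -/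
theorem MaxAt.isSemistable {S T : Subobject E} (h : MaxAt k L d S T) (hS : IsCohSub S)
    (hp : ShStab.IsPure X (quo (le_top : S ≤ ⊤)) d) :
    ShStab.IsSemistable k X L (quo h.1.le) d := by
  obtain ⟨hST, hT, hmax⟩ := h
  have hQ := isCoh_quo hST.le hS hT
  refine ⟨hQ, not_isZero_quo hST, fun G ι hι hG hG0 =>
    hp G (ι ≫ quoMap hST.le (le_top : T ≤ ⊤)) (mono_comp _ _) hG hG0, fun G ι hι hG hG0 _ pG pQ hpG hpQ => ?_⟩
  have h1 := (hmax (lift hST.le ι) (isCohSub_lift k hST.le hS hT ι hG) (lt_lift hST.le ι hG0)).1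
  rw [hilb_lift_sub k hL hST.le hS hT ι hG] at h1
  rwa [eq_hilb k hL hG hpG, eq_hilb k hL hQ hpQ, hilb_quo k hL hST.le hS hT]

include hL hE in
/-- What remains above a maximal destabilising step is pure. -/
theorem MaxAt.isPure {S T : Subobject E} (h : MaxAt k L d S T) (hS : IsCohSub S)
    (hp : ShStab.IsPure X (quo (le_top : S ≤ ⊤)) d) :
    ShStab.IsPure X (quo (le_top : T ≤ ⊤)) d := by
  obtain ⟨hST, hT, hmax⟩ := h
  intro G ι hι hG hG0
  have htop := isCohSub_top hE
  have hQ := isCoh_quo (le_top : S ≤ ⊤) hS htop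
  have hd : topologicalKrullDim ↥(CohB1.support (quo (le_top : S ≤ ⊤))) = (d : WithBot ℕ∞) :=
    dim_of_isPure hQ (not_isZero_quo (hST.trans_le le_top)) hp
  have hπ : Epi (cokernel.map (Subobject.ofLE S ⊤ le_top) (Subobject.ofLE T ⊤ le_top)
      (Subobject.ofLE S T hST.le) (𝟙 _) (by simp)) := by
    refine epi_of_epi_fac (f := cokernel.π (Subobject.ofLE S ⊤ le_top))
      (h := cokernel.π (Subobject.ofLE T ⊤ le_top)) ?_
    rw [cokernel.π_desc, Category.id_comp]
  have hdG : topologicalKrullDim ↥(CohB1.support G) ≤ (d : WithBot ℕ∞) :=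
    dim_le_of_mono ι (dim_le_of_epi (cokernel.map (Subobject.ofLE S ⊤ le_top)
      (Subobject.ofLE T ⊤ le_top) (Subobject.ofLE S T hST.le) (𝟙 _) _) hd.le)
  refine hdG.eq_or_lt.resolve_right fun hlt => ?_
  let U := lift (le_top : T ≤ ⊤) ι
  have hTU : T < U := lt_lift le_top ι hG0
  have hU : IsCohSub U := isCohSub_lift k le_top hT htop ι hG
  obtain ⟨h1, h2⟩ := hmax U hU (hST.trans hTU)
  have hsplit : pd k L S U = pd k L S T + hilb k L G := by
    rw [← hilb_lift_sub k hL (le_top : T ≤ ⊤) hT htop ι hG, ← pd_add]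
  have hle : RedLE d (pd k L S T) (pd k L S U) := by
    show StabCat.PolyLE _ _
    rw [hsplit, alpha_add, alpha_hilb_eq_zero k hL hG hlt, add_zero]
    refine polyLE_smul ?_ (polyLE_iff.2 ?_)
    · rw [show pd k L S T = hilb k L (quo hST.le) from (hilb_quo k hL hST.le hS hT).symm]
      exact alpha_hilb_nonneg k hL (isCoh_quo hST.le hS hT)
        (dim_le_of_mono (quoMap hST.le (le_top : T ≤ ⊤)) hd.le)
    · rw [add_sub_cancel_left]
      have := hilb_nonneg k hL hG
      rwa [polyLE_iff, sub_zero] at this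
  exact hTU.not_ge (h2 (redEq_of_le_of_le h1 hle))

omit [IsProper (X ↘ Spec (CommRingCat.of k))] in
/-- Slopes drop after a maximal destabilising step. -/
theorem MaxAt.redLT {S T U : Subobject E} (h : MaxAt k L d S T) (hU : IsCohSub U) (hTU : T < U) :
    RedLT d (pd k L T U) (pd k L S T) := by
  obtain ⟨hST, hT, hmax⟩ := h
  obtain ⟨h1, h2⟩ := hmax U hU (hST.trans hTU)
  have hlt : RedLT d (pd k L S U) (pd k L S T) :=
    (redLE_or_lt d _ _).resolve_left fun hle =>
      hTU.not_ge (h2 (redEq_of_le_of_le h1 hle))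
  rw [pd_add k S T U] at hlt
  exact (redLT_sum_iff _ _).1 hlt

/-- A chain with semistable steps of strictly decreasing slope. -/
def IsHNChain (L : X.Modules) (d : ℕ) (s : LTSeries (Subobject E)) : Prop :=
  (∀ i : Fin s.length, ∀ h : s i.castSucc ≤ s i.succ, ShStab.IsSemistable k X L (quo h) d) ∧
    ∀ i j : Fin s.length, i.val + 1 = j.val →
      RedLT d (pd k L (s j.castSucc) (s j.succ)) (pd k L (s i.castSucc) (s i.succ))

/-- Prepend an element. -/
def consSeries {α : Type*} [Preorder α] (a : α) (s : LTSeries α) (h : a < s.head) : LTSeries α where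
  length := s.length + 1
  toFun := Fin.cons a s.toFun
  step i := by
    induction i using Fin.cases with
    | zero => exact h
    | succ j => simpa [Fin.castSucc_succ] using s.step j

include hL hE in
theorem exists_hnChain (S : Subobject E) (hS : IsCohSub S)
    (hp : ShStab.IsPure X (quo (le_top : S ≤ ⊤)) d) :
    ∃ s : LTSeries (Subobject E), s.head = S ∧ s.last = ⊤ ∧ IsHNChain k L d s ∧
      (∀ i, IsCohSub (s i)) ∧ ∀ i : Fin s.length, i.val = 0 → MaxAt k L d (s i.castSucc) (s i.succ) := by
  haveI := EulerChar.isNoetherian k (X := X)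
  haveI := wellFoundedGT_cohSub hE
  suffices key : ∀ S : {S : Subobject E // IsCohSub S},
      ShStab.IsPure X (quo (le_top : S.1 ≤ ⊤)) d →
      ∃ s : LTSeries (Subobject E), s.head = S.1 ∧ s.last = ⊤ ∧ IsHNChain k L d s ∧
        (∀ i, IsCohSub (s i)) ∧
        ∀ i : Fin s.length, i.val = 0 → MaxAt k L d (s i.castSucc) (s i.succ) from key ⟨S, hS⟩ hp
  intro S
  induction S using WellFoundedGT.induction with
  | ind S ih =>
    intro hp
    obtain ⟨S, hS⟩ := S
    by_cases hne : S = ⊤
    · exact ⟨RelSeries.singleton _ S, rfl, hne, ⟨fun i => i.elim0, fun i => i.elim0⟩,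
        fun _ => hS, fun i => i.elim0⟩
    obtain ⟨T, hT⟩ := exists_maxAt k hL hE hS hne hp
    obtain ⟨s, hs0, hsl, ⟨hss, hdec⟩, hsc, hfirst⟩ :=
      ih ⟨T, hT.2.1⟩ hT.1 (hT.isPure k hL hE hS hp)
    have h0 : s.toFun 0 = T := hs0
    refine ⟨consSeries S s (hT.1.trans_eq hs0.symm), rfl, hsl, ⟨fun i => ?_, fun i j hij => ?_⟩,
      fun i => ?_, fun i hi => ?_⟩
    · induction i using Fin.cases with
      | zero =>
        show ∀ h : S ≤ s.toFun 0, ShStab.IsSemistable k X L (quo h) d
        rw [h0]
        exact fun _ => hT.isSemistable k hL hS hp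
      | succ i => exact hss i
    · induction j using Fin.cases with
      | zero => simp at hij
      | succ j =>
        induction i using Fin.cases with
        | zero =>
          show RedLT d (pd k L (s j.castSucc) (s j.succ)) (pd k L S (s.toFun 0))
          rw [h0]
          have hj : j.val = 0 := by simpa using hij.symm
          have hj0 : s j.castSucc = T := by
            rw [← h0]
            exact congrArg s.toFun (Fin.ext hj)
          rw [hj0]
          exact hT.redLT k (hsc j.succ) (hj0 ▸ s.step j)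
        | succ i => exact hdec i j (by simpa using hij)
    · induction i using Fin.cases with
      | zero => exact hS
      | succ i => exact hsc i
    · obtain rfl : i = ⟨0, Nat.succ_pos _⟩ := Fin.ext hi
      show MaxAt k L d S (s.toFun 0)
      rw [h0]
      exact hT

include hL in
/-- The multiplicity of a semistable step is positive. -/
theorem alpha_pd_pos {A B : Subobject E} (h : A ≤ B) (hA : IsCohSub A) (hB : IsCohSub B)
    (hss : ShStab.IsSemistable k X L (quo h) d) : 0 < alpha d (pd k L A B) := by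
  rw [show pd k L A B = hilb k L (quo h) from (hilb_quo k hL h hA hB).symm]
  exact alpha_hilb_pos k hL hss.1 (dim_of_isPure hss.1 hss.2.1 hss.2.2.1)

include hL in
theorem slope_mono (s : LTSeries (Subobject E)) (hs : IsHNChain k L d s)
    (hc : ∀ i, IsCohSub (s i)) (i j : Fin s.length) (h : i.val < j.val) :
    RedLT d (pd k L (s j.castSucc) (s j.succ)) (pd k L (s i.castSucc) (s i.succ)) := by
  obtain ⟨j, hj⟩ := j
  have hpos : ∀ i : Fin s.length, 0 < alpha d (pd k L (s i.castSucc) (s i.succ)) := fun i =>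
    alpha_pd_pos k hL (s.step i).le (hc _) (hc _) (hs.1 i (s.step i).le)
  induction j with
  | zero => exact absurd h (by simp)
  | succ j ih =>
    have hj' : j < s.length := by omega
    rcases Nat.lt_succ_iff_lt_or_eq.1 h with h' | h'
    · exact redLT_of_lt_of_le (hpos _).le (hpos ⟨j, hj'⟩) (hpos i)
        (hs.2 ⟨j, hj'⟩ ⟨j + 1, hj⟩ rfl) (redLE_of_lt (ih hj' h'))
    · exact hs.2 i ⟨j + 1, hj⟩ (by simp [h'])

include hL hE in
/-- Every step of a chain of semistables with decreasing slopes is maximal destabilising. -/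
theorem maxAt_step (s : LTSeries (Subobject E)) (hs : IsHNChain k L d s)
    (hc : ∀ i, IsCohSub (s i)) (hlast : s.last = ⊤) (i : Fin s.length) :
    MaxAt k L d (s i.castSucc) (s i.succ) := by
  set S := s i.castSucc with hSdef
  set T := s i.succ with hTdef
  refine ⟨s.step i, hc _, fun U hU hSU => ?_⟩
  suffices key : ∀ (j : ℕ) (hj : j < s.length + 1), i.val + 1 ≤ j →
      ∀ U : Subobject E, IsCohSub U → S < U → U ≤ s ⟨j, hj⟩ →
      RedLE d (pd k L S U) (pd k L S T) ∧ (RedEq d (pd k L S U) (pd k L S T) → U ≤ T) from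
    key s.length (Nat.lt_succ_self _) i.isLt U hU hSU (le_top.trans_eq hlast.symm)
  intro j
  induction j with
  | zero => intro hj h; omega
  | succ j ih =>
    intro hj hij U hU hSU hUj
    have hjl : j < s.length := by omega
    let jj : Fin s.length := ⟨j, hjl⟩
    rcases Nat.eq_or_lt_of_le hij with he | hlt
    · have hT' : s ⟨j + 1, hj⟩ = T := congrArg s.toFun (Fin.ext (by simp [← he]))
      refine ⟨?_, fun _ => hUj.trans_eq hT'⟩
      have hss := hs.1 i (s.step i).le
      let κ : quo hSU.le ⟶ quo (s.step i).le :=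
        (quoMap hSU.le (hUj.trans_eq hT') : quo hSU.le ⟶ quo (s.step i).le)
      haveI : Mono κ := mono_quoMap _ _
      have h1 := redLE_of_mono_isSemistable k hL hss κ (isCoh_quo hSU.le (hc _) hU)
        (not_isZero_quo hSU)
      rwa [hilb_quo k hL hSU.le (hc _) hU, hilb_quo k hL _ (hc _) (hc _)] at h1
    · have hjj : i.val + 1 ≤ j := by omega
      let A := s jj.castSucc
      let B := s jj.succ
      have hA : IsCohSub A := hc _
      have hUB : U ≤ B := hUj
      by_cases hUA : U ≤ A
      · exact ih (by omega) hjj U hU hSU hUA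
      have hSA : S ≤ A := s.monotone (show i.castSucc ≤ jj.castSucc from by
        rw [Fin.le_def]; simp only [Fin.val_castSucc, jj]; omega)
      have hsup := isCohSub_sup k hE hU hA
      have hinf := isCohSub_inf k hE hU hA
      have hAlt : A < U ⊔ A := lt_of_le_of_ne le_sup_right fun e => hUA (e.symm ▸ le_sup_left)
      have hss := hs.1 jj (s.step jj).le
      let κ : quo hAlt.le ⟶ quo (s.step jj).le :=
        (quoMap hAlt.le (sup_le hUB (s.step jj).le) : quo hAlt.le ⟶ quo (s.step jj).le)
      haveI : Mono κ := mono_quoMap _ _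
      have hq := redLE_of_mono_isSemistable k hL hss κ (isCoh_quo hAlt.le hA hsup)
        (not_isZero_quo hAlt)
      rw [hilb_quo k hL hAlt.le hA hsup, hilb_quo k hL _ (hc _) (hc _)] at hq
      have hsplit : pd k L S U = pd k L S (U ⊓ A) + pd k L A (U ⊔ A) := by
        have := hs_inf_add_sup k hL hE hU hA
        simp only [pd]
        linear_combination -this
      have hpA : 0 < alpha d (pd k L A B) := alpha_pd_pos k hL _ (hc _) (hc _) hss
      have hpq : 0 ≤ alpha d (pd k L A (U ⊔ A)) := by
        rw [show pd k L A (U ⊔ A) = hilb k L (quo hAlt.le) from (hilb_quo k hL hAlt.le hA hsup).symm]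
        exact alpha_hilb_nonneg k hL (isCoh_quo hAlt.le hA hsup)
          (dim_le_of_mono κ (dim_of_isPure hss.1 hss.2.1 hss.2.2.1).le)
      have hq' : RedLT d (pd k L A (U ⊔ A)) (pd k L S T) := by
        have hslope : RedLT d (pd k L A B) (pd k L S T) :=
          slope_mono k hL s hs hc i jj (by show i.val < j; omega)
        have hqpos : 0 < alpha d (pd k L A (U ⊔ A)) := by
          rw [show pd k L A (U ⊔ A) = hilb k L (quo hAlt.le) from (hilb_quo k hL hAlt.le hA hsup).symm]
          exact alpha_hilb_pos k hL (isCoh_quo hAlt.le hA hsup)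
            (hss.2.2.1 _ κ inferInstance (isCoh_quo hAlt.le hA hsup) (not_isZero_quo hAlt))
        exact redLT_of_le_of_lt hqpos hpA
          (alpha_pd_pos k hL _ (hc _) (hc _) (hs.1 i (s.step i).le)).le hq hslope
      have hinf' : RedLE d (pd k L S (U ⊓ A)) (pd k L S T) := by
        rcases (le_inf hSU.le hSA : S ≤ U ⊓ A).eq_or_lt with e | hlt'
        · rw [← e]
          show StabCat.PolyLE _ _
          simp [pd, alpha, polyLE_refl]
        · exact (ih (by omega) hjj _ hinf hlt' inf_le_right).1
      have hstrict : RedLT d (pd k L S U) (pd k L S T) := hsplit ▸ redLT_sum hinf' hq'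
      exact ⟨redLE_of_lt hstrict, fun he =>
        absurd hstrict (not_redLT_of_le (redLE_of_eq (redEq_symm he)))⟩

omit [Field k] [X.Over (Spec (CommRingCat.of k))] [IsProper (X ↘ Spec (CommRingCat.of k))] in
/-- Coherent steps from a coherent head give coherent members. -/
theorem isCohSub_of_steps [IsNoetherian X] (s : LTSeries (Subobject E)) (h0 : IsCohSub s.head)
    (hst : ∀ i : Fin s.length, Coh.IsCoh (quo (s.step i).le)) : ∀ i, IsCohSub (s i) := by
  intro i
  induction i using Fin.induction with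
  | zero => exact h0
  | succ i ih =>
    exact CohDev.isCoh_of_shortExact
      (HilbPolyX.shortExact_of_mono (Subobject.ofLE _ _ (s.step i).le)) ih (hst i)

/-- Two series with the same head, equal successors and last element `⊤` are equal. -/
theorem series_ext {α : Type*} [PartialOrder α] [OrderTop α] (s t : LTSeries α)
    (h0 : s.head = t.head) (hs : s.last = ⊤) (ht : t.last = ⊤)
    (hnext : ∀ (i : Fin s.length) (j : Fin t.length), s i.castSucc = t j.castSucc →
      s i.succ = t j.succ) : s = t := by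
  have key : ∀ n, ∀ (h : n < s.length + 1), ∃ h' : n < t.length + 1, s ⟨n, h⟩ = t ⟨n, h'⟩ := by
    intro n
    induction n with
    | zero => exact fun h => ⟨Nat.succ_pos _, h0⟩
    | succ n ih =>
      intro h
      obtain ⟨h', e⟩ := ih (by omega)
      have hn : n < t.length := by
        refine lt_of_le_of_ne (by omega) fun hn => ?_
        have hlt := s.step ⟨n, by omega⟩
        have : t ⟨n, h'⟩ = ⊤ := by rw [← ht]; exact congrArg t.toFun (Fin.ext hn)
        rw [show (⟨n, by omega⟩ : Fin s.length).castSucc = ⟨n, by omega⟩ from rfl] at hlt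
        exact not_top_lt (lt_of_eq_of_lt (e.trans this).symm hlt)
      exact ⟨by omega, hnext ⟨n, by omega⟩ ⟨n, hn⟩ e⟩
  have hle : s.length ≤ t.length := by
    obtain ⟨h', -⟩ := key s.length (Nat.lt_succ_self _)
    omega
  have hlen : s.length = t.length := by
    refine le_antisymm hle (not_lt.1 fun hlt => ?_)
    obtain ⟨h', e⟩ := key s.length (Nat.lt_succ_self _)
    have hlt' := t.strictMono (show (⟨s.length, h'⟩ : Fin (t.length + 1)) < Fin.last t.length from
      Fin.lt_def.2 hlt)
    rw [← e, show t (Fin.last t.length) = ⊤ from ht, show s ⟨s.length, _⟩ = ⊤ from hs] at hlt'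
    exact lt_irrefl _ hlt'
  refine RelSeries.ext hlen (funext fun i => ?_)
  obtain ⟨h', e⟩ := key i.val i.isLt
  exact e.trans (congrArg t.toFun (Fin.ext rfl))

end Groth.Agent.ShStabLib

namespace Groth.Agent.ShStabLib

open CategoryTheory CategoryTheory.Limits Groth.Agent.HilbPolyX

variable {X : Scheme.{u}} {E : X.Modules} {d : ℕ}

/-- `E` itself as the top quotient. -/
theorem isPure_quo_bot (hp : ShStab.IsPure X E d) :
    ShStab.IsPure X (quo (le_top : (⊥ : Subobject E) ≤ ⊤)) d := by
  let π := cokernel.π (Subobject.ofLE (⊥ : Subobject E) ⊤ le_top)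
  have h0 : Subobject.ofLE (⊥ : Subobject E) ⊤ le_top = 0 := isZero_bot.eq_of_src _ _
  haveI : Mono π := by
    haveI : IsSplitMono π := IsSplitMono.mk'
      ⟨cokernel.desc _ (𝟙 _) (by rw [h0, zero_comp]), cokernel.π_desc _ _ _⟩
    infer_instance
  haveI : IsIso π := isIso_of_mono_of_epi π
  exact isPure_of_mono hp (inv π ≫ (⊤ : Subobject E).arrow)

variable (k : Type u) [Field k] [X.Over (Spec (CommRingCat.of k))]
  [IsProper (X ↘ Spec (CommRingCat.of k))] {L : X.Modules} (hL : CohB1.IsAmple L)

include hL in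
theorem hnChain_of_isHN {s : LTSeries (Subobject E)} (h : ShStab.IsHNFiltration k X L E d s) :
    IsHNChain k L d s ∧ ∀ i, IsCohSub (s i) := by
  obtain ⟨h0, -, hss, hdec⟩ := h
  haveI := EulerChar.isNoetherian k (X := X)
  have hc := isCohSub_of_steps s (h0 ▸ isCohSub_bot) fun i => (hss i).1
  refine ⟨⟨fun i h => hss i, fun i j hij => ?_⟩, hc⟩
  have := hdec i j hij _ _ (isHilbPoly_hilb k hL (hss i).1) (isHilbPoly_hilb k hL (hss j).1)
  rw [show hilb k L (StabCat.factor s i) = pd k L (s i.castSucc) (s i.succ) from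
      hilb_quo k hL (s.step i).le (hc _) (hc _),
    show hilb k L (StabCat.factor s j) = pd k L (s j.castSucc) (s j.succ) from
      hilb_quo k hL (s.step j).le (hc _) (hc _)] at this
  exact this

include hL in
/-- Existence and uniqueness of the Harder-Narasimhan filtration. -/
theorem existsUnique_isHN (hE : Coh.IsCoh E) (hp : ShStab.IsPure X E d) :
    ∃! s : LTSeries (Subobject E), ShStab.IsHNFiltration k X L E d s := by
  obtain ⟨s, hs0, hsl, hchain, hc, -⟩ :=
    exists_hnChain k hL hE (⊥ : Subobject E) isCohSub_bot (isPure_quo_bot hp)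
  refine ⟨s, ⟨hs0, hsl, fun i => hchain.1 i (s.step i).le, fun i j hij p q hpi hqj => ?_⟩,
    fun t ht => ?_⟩
  · rw [eq_hilb k hL (hchain.1 i (s.step i).le).1 hpi, eq_hilb k hL (hchain.1 j (s.step j).le).1 hqj,
      hilb_quo k hL (s.step i).le (hc _) (hc _), hilb_quo k hL (s.step j).le (hc _) (hc _)]
    exact hchain.2 i j hij
  · obtain ⟨htc, htcoh⟩ := hnChain_of_isHN k hL ht
    refine series_ext t s (ht.1.trans hs0.symm) ht.2.1 hsl fun i j e => ?_
    have h1 := maxAt_step k hL hE t htc htcoh ht.2.1 i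
    have h2 := maxAt_step k hL hE s hchain hc hsl j
    rw [e] at h1
    exact h1.unique k h2

end Groth.Agent.ShStabLib
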