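import Groth.Agent.ShStabLib.Sub

/-!
# The maximal destabilising submodule of a pure coherent module

`d! ·` (coefficient of `X^d`) of a Hilbert polynomial is an integer; a maximal element for
"`S ≤ T` and `p(S) ≤ p(T)`" of least multiplicity is the maximal destabilising submodule.
-/

universe u

open CategoryTheory CategoryTheory.Limits AlgebraicGeometry TopologicalSpace
open StabCat (alpha RedLE RedLT RedEq)
open Groth.Agent.HilbPolyX

set_option linter.style.haveILetI false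

noncomputable section

namespace Groth.Agent.ShStabLib

/-- An integer-valued polynomial of degree `≤ d` has integral `d!`-fold top coefficient. -/
theorem exists_int_alpha : ∀ (d : ℕ) (P : Polynomial ℚ), P.natDegree ≤ d →
    (∀ m : ℕ, ∃ z : ℤ, P.eval (m : ℚ) = z) → ∃ z : ℤ, alpha d P = z := by
  intro d
  induction d with
  | zero =>
    intro P hP h
    obtain ⟨z, hz⟩ := h 0
    exact ⟨z, by simp [alpha, Polynomial.coeff_zero_eq_eval_zero, ← hz]⟩
  | succ d ih =>
    intro P hP h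
    let Q := P.comp (Polynomial.X + Polynomial.C 1) - P
    have hc : ∀ i, d ≤ i → Q.coeff i = (i + 1) * P.coeff (i + 1) := fun i hi => by
      rw [Polynomial.coeff_sub, coeff_comp_add P 1 i (hP.trans (by omega))]
      ring
    have hQ : Q.natDegree ≤ d := Polynomial.natDegree_le_iff_coeff_eq_zero.2 fun i hi => by
      rw [hc i hi.le, Polynomial.coeff_eq_zero_of_natDegree_lt (hP.trans_lt (by omega)), mul_zero]
    obtain ⟨z, hz⟩ := ih Q hQ fun m => by
      obtain ⟨a, ha⟩ := h (m + 1)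
      obtain ⟨b, hb⟩ := h m
      refine ⟨a - b, ?_⟩
      simp only [Q, Polynomial.eval_sub, Polynomial.eval_comp, Polynomial.eval_add, Polynomial.eval_X,
        Polynomial.eval_C, Int.cast_sub]
      rw [← ha, ← hb, Nat.cast_add, Nat.cast_one]
    refine ⟨z, ?_⟩
    rw [← hz, alpha, alpha, hc d le_rfl, Nat.factorial_succ]
    push_cast
    ring

variable {X : Scheme.{u}} {E : X.Modules} {d : ℕ}
variable (k : Type u) [Field k] [X.Over (Spec (CommRingCat.of k))]
  [IsProper (X ↘ Spec (CommRingCat.of k))] {L : X.Modules} (hL : CohB1.IsAmple L)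

include k hL in
theorem exists_nat_alpha {F : X.Modules} (hF : Coh.IsCoh F)
    (hd : topologicalKrullDim ↥(CohB1.support F) ≤ (d : WithBot ℕ∞)) :
    ∃ n : ℕ, alpha d (hilb k L F) = n := by
  obtain ⟨z, hz⟩ := exists_int_alpha d _ (natDegree_hilb_le k hL hF hd)
    fun m => ⟨_, (isHilbPoly_hilb k hL hF m).symm⟩
  have h0 := alpha_hilb_nonneg k hL hF hd
  rw [hz] at h0
  obtain ⟨n, rfl⟩ := Int.eq_ofNat_of_zero_le (show (0 : ℤ) ≤ z by exact_mod_cast h0)
  exact ⟨n, by simpa using hz⟩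

variable (hE : Coh.IsCoh E) (hp : ShStab.IsPure X E d)

include hp in
omit [Field k] [X.Over (Spec (CommRingCat.of k))] [IsProper (X ↘ Spec (CommRingCat.of k))] in
theorem dim_sub {S : Subobject E} (hS : IsCohSub S) (h : S ≠ ⊥) :
    topologicalKrullDim ↥(CohB1.support (S : X.Modules)) = (d : WithBot ℕ∞) :=
  hp _ S.arrow inferInstance hS fun hz => h (eq_bot_of_isZero hz)

include hp in
omit [Field k] [X.Over (Spec (CommRingCat.of k))] [IsProper (X ↘ Spec (CommRingCat.of k))] in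
theorem dim_sub_le {S : Subobject E} (hS : IsCohSub S) :
    topologicalKrullDim ↥(CohB1.support (S : X.Modules)) ≤ (d : WithBot ℕ∞) := by
  by_cases h : S = ⊥
  · rw [dim_support_of_isZero (by rw [h]; exact isZero_bot)]
    exact bot_le
  · exact (dim_sub hp hS h).le

include hL hp in
theorem a_pos {S : Subobject E} (hS : IsCohSub S) (h : S ≠ ⊥) : 0 < alpha d (hs k L S) :=
  alpha_hilb_pos k hL hS (dim_sub hp hS h)

include hL hp in
theorem a_nonneg {S : Subobject E} (hS : IsCohSub S) : 0 ≤ alpha d (hs k L S) :=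
  alpha_hilb_nonneg k hL hS (dim_sub_le hp hS)

include hL hp in
theorem a_mono {S T : Subobject E} (h : S ≤ T) (hS : IsCohSub S) (hT : IsCohSub T) :
    alpha d (hs k L S) ≤ alpha d (hs k L T) := by
  have h0 := alpha_hilb_nonneg k hL (isCoh_quo h hS hT) (d := d)
    (dim_le_of_epi (cokernel.π _) (dim_sub_le hp hT))
  rw [hilb_quo k hL h hS hT, show alpha d (hs k L T - hs k L S) =
    alpha d (hs k L T) - alpha d (hs k L S) by simp [alpha, mul_sub]] at h0
  linarith

include hL hp in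
/-- If `S ≤ T` have the same multiplicity then `p(S) ≤ p(T)`. -/
theorem redLE_of_a_eq {S T : Subobject E} (h : S ≤ T) (hS : IsCohSub S) (hT : IsCohSub T)
    (he : alpha d (hs k L S) = alpha d (hs k L T)) : RedLE d (hs k L S) (hs k L T) := by
  show StabCat.PolyLE _ _
  rw [← he]
  refine polyLE_smul (a_nonneg k hL hp hS) ?_
  have := hilb_nonneg k hL (isCoh_quo h hS hT)
  rw [hilb_quo k hL h hS hT, polyLE_iff, sub_zero] at this
  exact polyLE_iff.2 this

/-- Maximality for "contains and has at least the reduced Hilbert polynomial". -/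
def IsMaxl (L : X.Modules) (d : ℕ) (T : Subobject E) : Prop :=
  IsCohSub T ∧ T ≠ ⊥ ∧
    ∀ T' : Subobject E, IsCohSub T' → T < T' → RedLT d (hs k L T') (hs k L T)

include hL hE hp in
theorem exists_isMaxl_ge {S : Subobject E} (hS : IsCohSub S) (h0 : S ≠ ⊥) :
    ∃ T, IsMaxl k L d T ∧ S ≤ T ∧ RedLE d (hs k L S) (hs k L T) := by
  haveI := EulerChar.isNoetherian k (X := X)
  haveI := wellFoundedGT_cohSub hE
  obtain ⟨⟨T, hT⟩, ⟨hST, hle⟩, hmax⟩ := (wellFounded_gt (α := {S : Subobject E // IsCohSub S})).has_min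
    {T | S ≤ T.1 ∧ RedLE d (hs k L S) (hs k L T.1)} ⟨⟨S, hS⟩, le_rfl, redLE_refl d _⟩
  have hT0 : T ≠ ⊥ := ne_bot_of_le_ne_bot h0 hST
  refine ⟨T, ⟨hT, hT0, fun T' hT' hlt => ?_⟩, hST, hle⟩
  refine (redLE_or_lt d (hs k L T) (hs k L T')).resolve_left fun h => ?_
  exact hmax ⟨T', hT'⟩ ⟨hST.trans hlt.le, redLE_trans (a_nonneg k hL hp hS)
    (a_pos k hL hp hT hT0) (a_nonneg k hL hp hT') hle h⟩ hlt

include hL hE hp in
/-- A submodule not inside a maximal `F` with at least its slope meets `F` in something steeper. -/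
theorem lt_inf_of_not_le {F G : Subobject E} (hF : IsMaxl k L d F) (hG : IsCohSub G)
    (hG0 : G ≠ ⊥) (hGF : ¬ G ≤ F) (h : RedLE d (hs k L F) (hs k L G)) :
    G ⊓ F ≠ ⊥ ∧ RedLT d (hs k L G) (hs k L (G ⊓ F)) := by
  obtain ⟨hFc, hF0, hFm⟩ := hF
  have hsup := isCohSub_sup k hE hG hFc
  have hinf := isCohSub_inf k hE hG hFc
  have hlt : RedLT d (hs k L (G ⊔ F)) (hs k L F) :=
    hFm _ hsup (lt_of_le_of_ne le_sup_right fun e => hGF (e.symm ▸ le_sup_left))
  have hadd := hs_inf_add_sup k hL hE hG hFc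
  have ha : alpha d (hs k L (G ⊓ F)) + alpha d (hs k L (G ⊔ F)) =
      alpha d (hs k L G) + alpha d (hs k L F) := by rw [← alpha_add, hadd, alpha_add]
  have haF := a_pos k hL hp hFc hF0
  have haG := a_pos k hL hp hG hG0
  have hle := a_mono k hL hp (le_sup_right : F ≤ G ⊔ F) hFc hsup
  have key : RedLT d (hs k L G) (hs k L (G ⊓ F)) := by
    obtain ⟨N, hN⟩ := h
    obtain ⟨M, hM⟩ := hlt
    refine ⟨max N M, fun m hm => ?_⟩
    have h1 := hN m (le_of_max_le_left hm)
    have h2 := hM m (le_of_max_le_right hm)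
    have h3 := congrArg (Polynomial.eval (m : ℚ)) hadd
    simp only [Polynomial.eval_smul, Polynomial.eval_add, smul_eq_mul] at h1 h2 h3 ⊢
    refine lt_of_mul_lt_mul_left ?_ haF.le
    have h4 := mul_le_mul_of_nonneg_left h1
      (show (0 : ℚ) ≤ alpha d (hs k L (G ⊔ F)) - alpha d (hs k L F) by linarith)
    have h5 := mul_lt_mul_of_pos_left h2 haG
    rw [show alpha d (hs k L (G ⊓ F)) = alpha d (hs k L G) + alpha d (hs k L F) -
      alpha d (hs k L (G ⊔ F)) by linarith]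
    rw [show Polynomial.eval (m : ℚ) (hs k L (G ⊓ F)) = Polynomial.eval (m : ℚ) (hs k L G) +
      Polynomial.eval (m : ℚ) (hs k L F) - Polynomial.eval (m : ℚ) (hs k L (G ⊔ F)) by linarith]
    linarith
  refine ⟨fun e => ?_, key⟩
  rw [e, hs_bot k hL] at key
  simp [RedLT, alpha, StabCat.PolyLT] at key
  obtain ⟨N, hN⟩ := key
  exact lt_irrefl N (hN N)

include hL hE hp in
/-- The maximal destabilising subobject. -/
theorem exists_maxDestab (h0 : ¬ IsZero E) :
    ∃ F : Subobject E, IsCohSub F ∧ F ≠ ⊥ ∧ ∀ G : Subobject E, IsCohSub G → G ≠ ⊥ →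
      RedLE d (hs k L G) (hs k L F) ∧ (RedEq d (hs k L G) (hs k L F) → G ≤ F) := by
  classical
  haveI := EulerChar.isNoetherian k (X := X)
  have htop : (⊤ : Subobject E) ≠ ⊥ := fun e => h0 ((isZero_bot (E := E)).of_iso
    ((asIso (⊤ : Subobject E).arrow).symm ≪≫ Subobject.isoOfEq _ _ e))
  obtain ⟨T, hT, -, -⟩ := exists_isMaxl_ge k hL hE hp (isCohSub_top hE) htop
  have hex : ∃ n : ℕ, ∃ F : Subobject E, IsMaxl k L d F ∧ alpha d (hs k L F) = n := by
    obtain ⟨n, hn⟩ := exists_nat_alpha k hL hT.1 (dim_sub_le hp hT.1)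
    exact ⟨n, T, hT, hn⟩
  obtain ⟨F, hF, hn⟩ := Nat.find_spec hex
  have hmin : ∀ T : Subobject E, IsMaxl k L d T → alpha d (hs k L F) ≤ alpha d (hs k L T) := by
    intro T hT
    obtain ⟨n, hn'⟩ := exists_nat_alpha k hL hT.1 (dim_sub_le hp hT.1)
    rw [hn, hn']
    exact_mod_cast Nat.find_min' hex ⟨T, hT, hn'⟩
  obtain ⟨hFc, hF0, hFm⟩ := hF
  have haF := a_pos k hL hp hFc hF0
  -- nothing inside `F` is strictly steeper
  have inside : ∀ G : Subobject E, IsCohSub G → G ≠ ⊥ → G ≤ F →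
      ¬ RedLT d (hs k L F) (hs k L G) := by
    intro G hG hG0 hGF hlt
    haveI := wellFoundedGT_cohSub hE
    obtain ⟨⟨G₁, hG₁⟩, ⟨hGG₁, hG₁F, hle₁⟩, hmax⟩ :=
      (wellFounded_gt (α := {S : Subobject E // IsCohSub S})).has_min
        {T | G ≤ T.1 ∧ T.1 ≤ F ∧ RedLE d (hs k L G) (hs k L T.1)}
        ⟨⟨G, hG⟩, le_rfl, hGF, redLE_refl d _⟩
    have hG₁0 : G₁ ≠ ⊥ := ne_bot_of_le_ne_bot hG0 hGG₁
    have haG := a_pos k hL hp hG hG0
    have ha₁ := a_pos k hL hp hG₁ hG₁0
    have hlt₁ : RedLT d (hs k L F) (hs k L G₁) := redLT_of_lt_of_le haF.le haG ha₁ hlt hle₁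
    obtain ⟨G', hG', hG₁G', hle'⟩ := exists_isMaxl_ge k hL hE hp hG₁ hG₁0
    have ha' := a_pos k hL hp hG'.1 hG'.2.1
    have hFG' : RedLE d (hs k L F) (hs k L G') :=
      redLE_trans haF.le ha₁ ha'.le (redLE_of_lt hlt₁) hle'
    by_cases hin : G' ≤ F
    · have e : G₁ = G' := by
        by_contra hne
        exact hmax ⟨G', hG'.1⟩ ⟨hGG₁.trans hG₁G', hin,
          redLE_trans haG.le ha₁ ha'.le hle₁ hle'⟩ (lt_of_le_of_ne hG₁G' fun he => hne (congrArg Subtype.val he))
      subst e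
      have := le_antisymm (a_mono k hL hp hG₁F hG₁ hFc) (hmin G₁ hG')
      exact not_redLT_of_le (redLE_of_a_eq k hL hp hG₁F hG₁ hFc this) hlt₁
    · obtain ⟨hJ0, hJ⟩ :=
        lt_inf_of_not_le k hL hE hp ⟨hFc, hF0, hFm⟩ hG'.1 hG'.2.1 hin hFG'
      have hJc := isCohSub_inf k hE hG'.1 hFc
      have haJ := a_pos k hL hp hJc hJ0
      have hG₁J : RedLE d (hs k L G₁) (hs k L (G' ⊓ F)) :=
        redLE_of_lt (redLT_of_le_of_lt ha₁ ha' haJ.le hle' hJ)
      have hJmem : G ≤ G' ⊓ F := le_inf (hGG₁.trans hG₁G') hGF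
      have e : G₁ = G' ⊓ F := by
        by_contra hne
        exact hmax ⟨G' ⊓ F, hJc⟩ ⟨hJmem, inf_le_right,
          redLE_trans haG.le ha₁ haJ.le hle₁ hG₁J⟩
          (lt_of_le_of_ne (le_inf hG₁G' hG₁F) fun he => hne (congrArg Subtype.val he))
      rw [← e] at hJ
      exact not_redLT_of_le hle' hJ
  -- nothing outside `F` is as steep
  have outside : ∀ G : Subobject E, IsCohSub G → G ≠ ⊥ → ¬ G ≤ F →
      ¬ RedLE d (hs k L F) (hs k L G) := by
    intro G hG hG0 hGF h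
    obtain ⟨hJ0, hJ⟩ := lt_inf_of_not_le k hL hE hp ⟨hFc, hF0, hFm⟩ hG hG0 hGF h
    have hJc := isCohSub_inf k hE hG hFc
    exact inside _ hJc hJ0 inf_le_right
      (redLT_of_le_of_lt haF (a_pos k hL hp hG hG0) (a_nonneg k hL hp hJc) h hJ)
  refine ⟨F, hFc, hF0, fun G hG hG0 => ?_⟩
  by_cases hGF : G ≤ F
  · exact ⟨(redLE_or_lt d _ _).resolve_right (inside G hG hG0 hGF), fun _ => hGF⟩
  · refine ⟨redLE_of_lt ((redLE_or_lt d _ _).resolve_left (outside G hG hG0 hGF)), fun he => ?_⟩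
    exact absurd (redLE_of_eq (redEq_symm he)) (outside G hG hG0 hGF)

include hL in
theorem isMaxDestab_of_forall {F : Subobject E} (hFc : IsCohSub F) (hF0 : F ≠ ⊥)
    (hmax : ∀ G : Subobject E, IsCohSub G → G ≠ ⊥ →
      RedLE d (hs k L G) (hs k L F) ∧ (RedEq d (hs k L G) (hs k L F) → G ≤ F)) :
    ShStab.IsMaxDestab k X L E d (F : X.Modules) F.arrow := by
  refine ⟨inferInstance, hFc, fun hz => hF0 (eq_bot_of_isZero hz), fun G κ hκ hG hG0 pF pG hpF hpG => ?_⟩
  have hne : Subobject.mk κ ≠ ⊥ := fun e => hG0 <| (isZero_bot (E := E)).of_iso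
    ((Subobject.underlyingIso κ).symm ≪≫ Subobject.isoOfEq _ _ e)
  have h := hmax _ (isCohSub_mk κ hG) hne
  rw [hs_mk k hL κ hG, ← eq_hilb k hL hG hpG, show hs k L F = pF from (eq_hilb k hL hFc hpF).symm] at h
  exact ⟨h.1, fun he => ⟨Subobject.ofMkLE κ F (h.2 he), Subobject.ofMkLE_arrow _⟩⟩

end Groth.Agent.ShStabLib
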