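import Groth.Agent.CohDerLib.SubobjJH

/-!
# Subobjects of a subquotient as subobjects of the ambient object
-/

universe v u

open CategoryTheory CategoryTheory.Limits

namespace Groth.Agent.ShStabLib.SubQuot

open Groth.Agent.SubElem
open Groth.Agent.CohDerLib.SubobjJH (comp_π_eq_zero_iff)

variable {A : Type u} [Category.{v} A] [Abelian A] {E C : A} (B : Subobject E) (p : (B : A) ⟶ C)

/-- The preimage in `E` of a subobject of a quotient `p : B ⟶ C` of a subobject `B ⊆ E`. -/
noncomputable def pre (T : Subobject C) : Subobject E :=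
  Subobject.mk (kernel.ι (p ≫ cokernel.π T.arrow) ≫ B.arrow)

theorem pre_le (T : Subobject C) : pre B p T ≤ B := Subobject.mk_le_of_comm (kernel.ι _) rfl

theorem factors_iff (T : Subobject C) {W : A} (w : W ⟶ (B : A)) :
    (pre B p T).Factors (w ≫ B.arrow) ↔ T.Factors (w ≫ p) := by
  constructor
  · intro h
    obtain ⟨g, hg⟩ : ∃ g : W ⟶ kernel (p ≫ cokernel.π T.arrow),
        g ≫ kernel.ι (p ≫ cokernel.π T.arrow) ≫ B.arrow = w ≫ B.arrow :=
      (Subobject.mk_factors_iff _ _).1 h
    have hw : w = g ≫ kernel.ι (p ≫ cokernel.π T.arrow) := by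
      rw [← cancel_mono B.arrow, Category.assoc]; exact hg.symm
    refine (factors_iff_exists _).2 ⟨Abelian.monoLift T.arrow (w ≫ p)
      (by rw [hw, Category.assoc, Category.assoc, kernel.condition, comp_zero]), Abelian.monoLift_comp _ _ _⟩
  · intro h
    obtain ⟨s, hs⟩ := (factors_iff_exists _).1 h
    exact (Subobject.mk_factors_iff _ _).2 ⟨kernel.lift _ w
      (by rw [← Category.assoc, ← hs, Category.assoc, cokernel.condition, comp_zero]),
      kernel.lift_ι_assoc _ _ _ _⟩

theorem pre_mono {T T' : Subobject C} (h : T ≤ T') : pre B p T ≤ pre B p T' := le_iff.2 fun W w hw => by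
  obtain ⟨g, rfl⟩ := (factors_iff_exists _).1 hw
  rw [← Subobject.ofLE_arrow (pre_le B p T), ← Category.assoc] at hw ⊢
  exact (factors_iff B p T' _).2 (Subobject.factors_of_le _ h ((factors_iff B p T _).1 hw))

theorem pre_top : pre B p ⊤ = B := le_antisymm (pre_le B p ⊤) <| le_iff.2 fun W w hw => by
  obtain ⟨g, rfl⟩ := (factors_iff_exists _).1 hw
  exact (factors_iff B p ⊤ g).2 (Subobject.top_factors _)

theorem pre_bot {S : Subobject E} (h : S ≤ B)
    (hp : ∀ {W : A} (w : W ⟶ (B : A)), w ≫ p = 0 ↔ w ≫ cokernel.π (Subobject.ofLE S B h) = 0) :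
    pre B p ⊥ = S := by
  refine le_antisymm (le_iff.2 fun W w hw => ?_) (le_iff.2 fun W w hw => ?_)
  · obtain ⟨g, rfl⟩ := (factors_iff_exists _).1 hw
    rw [← Subobject.ofLE_arrow (pre_le B p ⊥), ← Category.assoc] at hw ⊢
    rwa [factors_iff, Subobject.bot_factors_iff_zero, hp, comp_π_eq_zero_iff h] at hw
  · obtain ⟨g, rfl⟩ := (factors_iff_exists _).1 (Subobject.factors_of_le _ h hw)
    rwa [factors_iff, Subobject.bot_factors_iff_zero, hp, comp_π_eq_zero_iff h]

theorem exists_factor_iso [Epi p] {T T' : Subobject C} (h : T ≤ T') :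
    Nonempty (cokernel (Subobject.ofLE (pre B p T) (pre B p T') (pre_mono B p h)) ≅
      cokernel (Subobject.ofLE T T' h)) := by
  have hfac : ∀ T : Subobject C, T.Factors (Subobject.ofLE (pre B p T) B (pre_le B p T) ≫ p) := fun T =>
    (factors_iff B p T _).1 (by rw [Subobject.ofLE_arrow]; exact factors_arrow _)
  let ψ : ∀ T : Subobject C, (pre B p T : A) ⟶ (T : A) := fun T => T.factorThru _ (hfac T)
  have hψ : ∀ T, ψ T ≫ T.arrow = Subobject.ofLE (pre B p T) B (pre_le B p T) ≫ p :=
    fun T => Subobject.factorThru_arrow _ _ _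
  have hepi : ∀ T, Epi (ψ T) := fun T => by
    rw [epi_iff_surjective_up_to_refinements]
    intro W t
    obtain ⟨W', π, hπ, b, hb⟩ := surjective_up_to_refinements_of_epi p (t ≫ T.arrow)
    have hb' : (pre B p T).Factors (b ≫ B.arrow) := (factors_iff B p T b).2 (by
      rw [← hb, ← Category.assoc]
      exact (factors_iff_exists _).2 ⟨_, rfl⟩)
    obtain ⟨c, hc⟩ := (factors_iff_exists _).1 hb'
    refine ⟨W', π, hπ, c, ?_⟩
    rw [← cancel_mono T.arrow, Category.assoc, Category.assoc, hψ, ← Category.assoc c, hb]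
    congr 1
    rw [← cancel_mono B.arrow, Category.assoc, Subobject.ofLE_arrow, hc]
  let f : cokernel (Subobject.ofLE (pre B p T) (pre B p T') (pre_mono B p h)) ⟶
      cokernel (Subobject.ofLE T T' h) :=
    cokernel.map _ _ (ψ T) (ψ T') (by
      rw [← cancel_mono T'.arrow, Category.assoc, Category.assoc, Subobject.ofLE_arrow, hψ T',
        hψ T, ← Category.assoc, Subobject.ofLE_comp_ofLE])
  have hf : cokernel.π _ ≫ f = ψ T' ≫ cokernel.π (Subobject.ofLE T T' h) := cokernel.π_desc _ _ _
  have : Epi f := by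
    have := hepi T'
    exact epi_of_epi_fac hf
  have : Mono f := by
    refine Preadditive.mono_of_cancel_zero _ fun {W} w hw => ?_
    obtain ⟨W', π, hπ, t, ht⟩ := surjective_up_to_refinements_of_epi
      (cokernel.π (Subobject.ofLE (pre B p T) (pre B p T') (pre_mono B p h))) w
    have h1 : (t ≫ ψ T') ≫ cokernel.π (Subobject.ofLE T T' h) = 0 := by
      rw [Category.assoc, ← hf, ← reassoc_of% ht, hw, comp_zero]
    rw [comp_π_eq_zero_iff, Category.assoc, hψ, ← Category.assoc] at h1
    rw [← cancel_epi π, comp_zero, ht, comp_π_eq_zero_iff]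
    have h2 := (factors_iff B p T _).2 h1
    rwa [Category.assoc, Subobject.ofLE_arrow] at h2
  have := isIso_of_mono_of_epi f
  exact ⟨asIso f⟩

end Groth.Agent.ShStabLib.SubQuot
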