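import Groth.Agent.ShStabLib.SlopeAbel
import Groth.Agent.ShStabLib.SubQuot
import Groth.Agent.ShStabLib.LocFreeAt

/-!
# Semistable modules whose graded Jordan-Hölder object is locally free near a point
-/

universe u

open CategoryTheory CategoryTheory.Limits AlgebraicGeometry
open StabCat (alpha RedLE RedEq)
open Groth.Agent.HilbPolyX

noncomputable section

namespace Groth.Agent.ShStabLib

variable {d : ℕ} {X : Scheme.{u}}
variable (k : Type u) [Field k] [X.Over (Spec (CommRingCat.of k))]
  [IsProper (X ↘ Spec (CommRingCat.of k))] {L : X.Modules} (hL : CohB1.IsAmple L)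

include hL in
theorem isStable_of_iso {F G : X.Modules} (e : F ≅ G) (h : ShStab.IsStable k X L G d) :
    ShStab.IsStable k X L F d := by
  have hF := CohDev.isCoh_of_iso e.symm h.1
  refine ⟨hF, fun hz => h.2.1 (hz.of_iso e.symm), isPure_of_mono h.2.2.1 e.hom,
    fun P ι _ hP hP0 hi pP pF hpP hpF => ?_⟩
  rw [eq_hilb k hL hP hpP, eq_hilb k hL hF hpF, hilb_iso k hL e hF]
  exact redLT_of_mono_isStable k hL h (ι ≫ e.hom) hP hP0 fun hiso => hi (by
    exact IsIso.of_isIso_comp_right ι e.hom)

omit [Field k] [X.Over (Spec (CommRingCat.of k))] [IsProper (X ↘ Spec (CommRingCat.of k))] in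
theorem nonempty_quo_iso {E : X.Modules} {S T S' T' : Subobject E} (h : S ≤ T) (h' : S' ≤ T')
    (eS : S = S') (eT : T = T') : Nonempty (quo h ≅ quo h') := by
  subst eS eT
  exact ⟨Iso.refl _⟩

/-- Semistable or zero, on the slope of `P`. -/
def SSOrZero (L : X.Modules) (d : ℕ) (P : Polynomial ℚ) (C : X.Modules) : Prop :=
  IsZero C ∨ (ShStab.IsSemistable k X L C d ∧ RedEq d (hilb k L C) P)

include hL in
theorem exists_isJH_of_ssOrZero {P : Polynomial ℚ} {C : X.Modules} (h : SSOrZero k L d P C) :
    ∃ t : LTSeries (Subobject C), ShStab.IsJHFiltration k X L C d t := by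
  rcases h with h | h
  · refine ⟨RelSeries.singleton _ ⊥, rfl, ?_, fun i => i.elim0⟩
    exact (eq_bot_of_isZero (h.of_iso (asIso (⊤ : Subobject C).arrow))).symm
  · exact exists_isJH k hL h.1

include hL in
/-- A Jordan-Hölder filtration of a subquotient as a chain in the ambient module. -/
theorem exists_lift_series {E C : X.Modules} (_hE : ShStab.IsSemistable k X L E d)
    {A B : Subobject E} (h : A ≤ B) (e : C ≅ quo h) (hC : SSOrZero k L d (hilb k L E) C)
    (t : LTSeries (Subobject C)) (ht : ShStab.IsJHFiltration k X L C d t) :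
    ∃ u : LTSeries (Subobject E), u.head = A ∧ u.last = B ∧ u.length = t.length ∧
      ∀ i : Fin u.length, (ShStab.IsStable k X L (StabCat.factor u i) d ∧
        RedEq d (hilb k L (StabCat.factor u i)) (hilb k L E)) ∧
        ∀ j : Fin t.length, j.val = i.val → Nonempty (StabCat.factor u i ≅ StabCat.factor t j) := by
  let p : (B : X.Modules) ⟶ C := cokernel.π (Subobject.ofLE A B h) ≫ e.inv
  have hlt : ∀ i : Fin t.length, SubQuot.pre B p (t i.castSucc) < SubQuot.pre B p (t i.succ) := fun i => by
    refine lt_of_le_of_ne (SubQuot.pre_mono B p (t.step i).le) fun heq => (ht.2.2 i).1.2.1 ?_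
    obtain ⟨f⟩ := SubQuot.exists_factor_iso B p (t.step i).le
    exact ((isZero_quo_iff _).2 heq).of_iso f.symm
  refine ⟨⟨t.length, fun i => SubQuot.pre B p (t i), hlt⟩, ?_, ?_, rfl, fun i => ?_⟩
  · show SubQuot.pre B p (t 0) = A
    rw [show t 0 = ⊥ from ht.1]
    exact SubQuot.pre_bot B p h fun w => by rw [← Category.assoc, Preadditive.IsIso.comp_right_eq_zero]
  · show SubQuot.pre B p (t (Fin.last _)) = B
    rw [show t (Fin.last _) = ⊤ from ht.2.1]
    exact SubQuot.pre_top B p
  · obtain ⟨f⟩ := SubQuot.exists_factor_iso B p (t.step i).le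
    have hst := isStable_of_iso k hL f (ht.2.2 i).1
    refine ⟨⟨hst, ?_⟩, fun j hj => ?_⟩
    · have hC' := hC.resolve_left fun hz => (ht.2.2 i).1.2.1 ?_
      · refine redEq_trans (alpha_E_pos k hL hC'.1).ne' ?_ (redEq_symm hC'.2)
        exact (congrArg (fun P => RedEq d P (hilb k L C)) (hilb_iso k hL f hst.1)).mpr
          ((ht.2.2 i).2 _ _ (isHilbPoly_hilb k hL (ht.2.2 i).1.1) (isHilbPoly_hilb k hL hC'.1.1))
      · refine (isZero_quo_iff _).2 ?_
        have hbot : ∀ S : Subobject C, S = ⊥ := fun S =>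
          eq_bot_of_isZero ((IsZero.iff_id_eq_zero _).2 (by
            rw [← cancel_mono S.arrow]; exact hz.eq_of_tgt _ _))
        rw [hbot (t i.castSucc), hbot (t i.succ)]
    · obtain rfl : j = i := Fin.ext hj
      exact ⟨f⟩

theorem LFAt.factor_of_grObj {x : X} {E : X.Modules} (s : LTSeries (Subobject E))
    (h : LFAt x (StabCat.grObj s)) (i : Fin s.length) : LFAt x (StabCat.factor s i) := by
  classical
  exact h.of_retract
    { i := Sigma.ι (fun i => StabCat.factor s i) i
      r := Sigma.desc fun j => if hj : j = i then eqToHom (by rw [hj]) else 0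
      retract := by simp }

theorem LFAt.grObj {x : X} {E : X.Modules} (s : LTSeries (Subobject E))
    (h : ∀ i : Fin s.length, LFAt x (StabCat.factor s i)) : LFAt x (StabCat.grObj s) := by
  choose U hx hU using h
  let W : X.Opens := ⟨⋂ i, (U i : Set X), isOpen_iInter_of_finite fun i => (U i).2⟩
  refine ⟨W, Set.mem_iInter.2 hx, ?_⟩
  have : PreservesColimitsOfSize.{0, 0} (Scheme.Modules.restrictFunctor W.ι) :=
    (Scheme.Modules.restrictAdjunction W.ι).leftAdjoint_preservesColimits
  exact KFlat.LocFree.isFinLocFree_of_iso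
    (PreservesCoproduct.iso (Scheme.Modules.restrictFunctor W.ι) _).symm
    (KFlat.TensorLocFree.isFinLocFree_sigma _ Finset.univ (fun i hi => absurd (Finset.mem_univ i) hi)
      fun i => isFinLocFree_restrict_le (Set.iInter_subset (fun i => (U i : Set X)) i) (hU i))

/-- A module with a filtration by modules locally free at `x` is locally free at `x`. -/
theorem LFAt.of_series {x : X} {E : X.Modules} (s : LTSeries (Subobject E)) (h0 : s.head = ⊥)
    (h1 : s.last = ⊤) (h : ∀ i : Fin s.length, LFAt x (StabCat.factor s i)) : LFAt x E := by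
  have key : ∀ n : Fin (s.length + 1), LFAt x (s n : X.Modules) := by
    intro n
    induction n using Fin.induction with
    | zero => exact (show s 0 = ⊥ from h0) ▸ LFAt.of_isZero isZero_bot
    | succ i ih =>
      exact LFAt.X₂ (S := ShortComplex.mk _ _ (cokernel.condition
        (Subobject.ofLE _ _ (s.step i).le))) (shortExact_of_mono _) ih (h i)
  have := key (Fin.last _)
  rw [show s (Fin.last _) = ⊤ from h1] at this
  exact this.of_iso (asIso (⊤ : Subobject E).arrow)

include hL in
/-- If the graded object is locally free at `x`, so are the Jordan-Hölder factors of submodules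
on the slope and of their quotients. -/
theorem exists_jh_lfAt {E G : X.Modules} (hE : ShStab.IsSemistable k X L E d) {x : X}
    (sE : LTSeries (Subobject E)) (hsE : ShStab.IsJHFiltration k X L E d sE)
    (hgr : LFAt x (StabCat.grObj sE)) (ι : G ⟶ E) [Mono ι] (hG : Coh.IsCoh G)
    (hred : RedEq d (hilb k L G) (hilb k L E)) :
    (∃ sG : LTSeries (Subobject G), ShStab.IsJHFiltration k X L G d sG ∧
      ∀ i : Fin sG.length, LFAt x (StabCat.factor sG i)) ∧
    (∃ sQ : LTSeries (Subobject (cokernel ι)), ShStab.IsJHFiltration k X L (cokernel ι) d sQ ∧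
      ∀ i : Fin sQ.length, LFAt x (StabCat.factor sQ i)) := by
  let S := Subobject.mk ι
  have hG' : SSOrZero k L d (hilb k L E) G :=
    or_iff_not_imp_left.2 fun h0 => ⟨isSemistable_sub_onSlope k hL hE ι hG h0 hred, hred⟩
  have hQ' : SSOrZero k L d (hilb k L E) (cokernel ι) :=
    or_iff_not_imp_left.2 fun h0 => isSemistable_quot_onSlope k hL hE ι hG hred (Iso.refl _) h0
  let eG : G ≅ quo (bot_le : ⊥ ≤ S) :=
    (Subobject.underlyingIso ι).symm ≪≫ cokernelZeroIsoTarget.symm ≪≫
      cokernelIsoOfEq (isZero_bot.eq_of_src (0 : ((⊥ : Subobject E) : X.Modules) ⟶ _) _)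
  let eQ : cokernel ι ≅ quo (le_top : S ≤ ⊤) :=
    (cokernel.mapIso (Subobject.ofLE S ⊤ le_top) ι (Subobject.underlyingIso ι)
      (asIso (⊤ : Subobject E).arrow) (by simp [S])).symm
  obtain ⟨tG, htG⟩ := exists_isJH_of_ssOrZero k hL hG'
  obtain ⟨tQ, htQ⟩ := exists_isJH_of_ssOrZero k hL hQ'
  obtain ⟨uG, uG0, uG1, uGl, huG⟩ := exists_lift_series k hL hE bot_le eG hG' tG htG
  obtain ⟨uQ, uQ0, uQ1, uQl, huQ⟩ := exists_lift_series k hL hE le_top eQ hQ' tQ htQ
  let u : LTSeries (Subobject E) := uG.smash uQ (uG1.trans uQ0.symm)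
  have hl : ∀ i : Fin uG.length, Nonempty (StabCat.factor u (i.castAdd uQ.length) ≅ StabCat.factor uG i) :=
    fun i => nonempty_quo_iso (u.step _).le (uG.step i).le (RelSeries.smash_castAdd _ i)
      (RelSeries.smash_succ_castAdd _ i)
  have hr : ∀ i : Fin uQ.length, Nonempty (StabCat.factor u (i.natAdd uG.length) ≅ StabCat.factor uQ i) :=
    fun i => nonempty_quo_iso (u.step _).le (uQ.step i).le (RelSeries.smash_natAdd _ i)
      (RelSeries.smash_succ_natAdd _ i)
  have hu : ShStab.IsJHFiltration k X L E d u := by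
    refine ⟨(RelSeries.head_smash _).trans uG0, (RelSeries.last_smash _).trans uQ1, fun i => ?_⟩
    have key : ∀ {F : X.Modules}, (StabCat.factor u i ≅ F) → ShStab.IsStable k X L F d →
        RedEq d (hilb k L F) (hilb k L E) → ShStab.IsStable k X L (StabCat.factor u i) d ∧
          ∀ (p q : Polynomial ℚ), ShStab.IsHilbPoly k X L (StabCat.factor u i) p →
            ShStab.IsHilbPoly k X L E q → RedEq d p q := by
      intro F e h hq
      have hi := isStable_of_iso k hL e h
      refine ⟨hi, fun p q hp hq' => ?_⟩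
      rw [eq_hilb k hL hi.1 hp, eq_hilb k hL hE.1 hq', hilb_iso k hL e hi.1]
      exact hq
    induction i using Fin.addCases with
    | left j => exact (hl j).elim fun e => key e (huG j).1.1 (huG j).1.2
    | right j => exact (hr j).elim fun e => key e (huQ j).1.1 (huQ j).1.2
  obtain ⟨-, ⟨egr⟩⟩ := jh_unique k hL hE hu hsE
  have hLF := fun i => LFAt.factor_of_grObj u (hgr.of_iso egr.symm) i
  refine ⟨⟨tG, htG, fun j => ?_⟩, ⟨tQ, htQ, fun j => ?_⟩⟩
  · obtain ⟨e⟩ := (huG (j.cast uGl.symm)).2 j rfl
    obtain ⟨e'⟩ := hl (j.cast uGl.symm)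
    exact ((hLF _).of_iso e').of_iso e
  · obtain ⟨e⟩ := (huQ (j.cast uQl.symm)).2 j rfl
    obtain ⟨e'⟩ := hr (j.cast uQl.symm)
    exact ((hLF _).of_iso e').of_iso e

end Groth.Agent.ShStabLib
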