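import Groth.Agent.ShStabLib.JH

/-!
# Semistable modules of one slope are closed under kernels and cokernels
-/

universe u

open CategoryTheory CategoryTheory.Limits AlgebraicGeometry
open StabCat (alpha RedLE RedEq)
open Groth.Agent.HilbPolyX

noncomputable section

namespace Groth.Agent.ShStabLib

variable {d : ℕ} {X : Scheme.{u}}
variable (k : Type u) [Field k] [X.Over (Spec (CommRingCat.of k))]
  [IsProper (X ↘ Spec (CommRingCat.of k))] {L : X.Modules} (hL : CohB1.IsAmple L)

include hL in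
/-- A nonzero submodule on the slope of a semistable module is semistable. -/
theorem isSemistable_sub_onSlope {E K : X.Modules} (hE : ShStab.IsSemistable k X L E d)
    (ι : K ⟶ E) [Mono ι] (hK : Coh.IsCoh K) (h0 : ¬ IsZero K)
    (hred : RedEq d (hilb k L K) (hilb k L E)) : ShStab.IsSemistable k X L K d := by
  have hp := isPure_of_mono hE.2.2.1 ι
  refine ⟨hK, h0, hp, fun G κ _ hG hG0 _ pG pK hpG hpK => ?_⟩
  rw [eq_hilb k hL hG hpG, eq_hilb k hL hK hpK]
  exact redLE_trans (alpha_hilb_nonneg k hL hG (hp G κ inferInstance hG hG0).le)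
    (alpha_hilb_pos k hL hE.1 (dim_of_isPure hE.1 hE.2.1 hE.2.2.1))
    (alpha_hilb_pos k hL hK (dim_of_isPure hK h0 hp)).le
    (redLE_of_mono_isSemistable k hL hE (κ ≫ ι) hG hG0) (redLE_of_eq (redEq_symm hred))

include hL in
/-- A nonzero quotient of a semistable module by a submodule on its slope is semistable. -/
theorem isSemistable_quot_onSlope {E I C : X.Modules} (hE : ShStab.IsSemistable k X L E d)
    (q : I ⟶ E) [Mono q] (hI : Coh.IsCoh I) (hred : RedEq d (hilb k L I) (hilb k L E))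
    (e : C ≅ cokernel q) (h0 : ¬ IsZero C) :
    ShStab.IsSemistable k X L C d ∧ RedEq d (hilb k L C) (hilb k L E) := by
  have hQc := isCoh_of_monoCokernel q hI hE.1
  have hC : Coh.IsCoh C := CohDev.isCoh_of_iso e.symm hQc
  have hCred : RedEq d (hilb k L C) (hilb k L E) := by
    rw [hilb_iso k hL e hC, show hilb k L (cokernel q) = hilb k L E - hilb k L I from
      eq_sub_of_add_eq' (hilb_mono k hL q hI hE.1).symm]
    exact redEq_sub rfl hred
  have hS : OnSlope k L d (Subobject.mk q) :=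
    ⟨isCohSub_mk q hI, by rw [hs_mk k hL q hI]; exact hred⟩
  have htop := isCohSub_top hE.1
  let e' : C ≅ quo (le_top : Subobject.mk q ≤ ⊤) :=
    e ≪≫ (cokernel.mapIso (Subobject.ofLE (Subobject.mk q) ⊤ le_top) q (Subobject.underlyingIso q)
      (asIso (⊤ : Subobject E).arrow) (by simp)).symm
  have hdC : topologicalKrullDim ↥(CohB1.support C) ≤ (d : WithBot ℕ∞) :=
    dim_le_of_epi (cokernel.π q ≫ e.inv) (dim_of_isPure hE.1 hE.2.1 hE.2.2.1).le
  have hsub : ∀ (G : X.Modules) (κ : G ⟶ C), Mono κ → Coh.IsCoh G → ¬ IsZero G →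
      0 < alpha d (hilb k L G) ∧ RedLE d (hilb k L G) (hilb k L E) := by
    intro G κ _ hG hG0
    have hU := isCohSub_lift k (le_top : Subobject.mk q ≤ ⊤) hS.1 htop (κ ≫ e'.hom) hG
    have hpd := hilb_lift_sub k hL (le_top : Subobject.mk q ≤ ⊤) hS.1 htop (κ ≫ e'.hom) hG
    exact ⟨hpd ▸ alpha_pd_pos_of_onSlope k hL hE hS hU (lt_lift _ (κ ≫ e'.hom) hG0),
      hpd ▸ redLE_pd k hL hE hS hU⟩
  have hpure : ShStab.IsPure X C d := fun G κ hκ hG hG0 => by
    refine (dim_le_of_mono κ hdC).eq_or_lt.resolve_right fun hlt => ?_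
    exact (alpha_hilb_eq_zero k hL hG hlt).not_gt (hsub G κ hκ hG hG0).1
  refine ⟨⟨hC, h0, hpure, fun G κ hκ hG hG0 _ pG pC hpG hpC => ?_⟩, hCred⟩
  rw [eq_hilb k hL hG hpG, eq_hilb k hL hC hpC]
  exact redLE_trans (hsub G κ hκ hG hG0).1.le
    (alpha_hilb_pos k hL hE.1 (dim_of_isPure hE.1 hE.2.1 hE.2.2.1))
    (alpha_hilb_pos k hL hC (dim_of_isPure hC h0 hpure)).le
    (hsub G κ hκ hG hG0).2 (redLE_of_eq (redEq_symm hCred))

include hL in
/-- The image of a map between semistable modules of one slope is on that slope. -/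
theorem redEq_image {E F I : X.Modules} (hE : ShStab.IsSemistable k X L E d)
    (hF : ShStab.IsSemistable k X L F d) (hred : RedEq d (hilb k L E) (hilb k L F))
    (p : E ⟶ I) [Epi p] (q : I ⟶ F) [Mono q] (hI : Coh.IsCoh I) :
    RedEq d (hilb k L I) (hilb k L E) ∧ RedEq d (hilb k L I) (hilb k L F) := by
  by_cases h0 : IsZero I
  · rw [hilb_eq_zero_of_isZero k hL h0]
    exact ⟨redEq_zero _, redEq_zero _⟩
  have hEpos := alpha_hilb_pos k hL hE.1 (dim_of_isPure hE.1 hE.2.1 hE.2.2.1)
  have hFpos := alpha_hilb_pos k hL hF.1 (dim_of_isPure hF.1 hF.2.1 hF.2.2.1)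
  have hIpos := alpha_hilb_pos k hL hI (dim_of_isPure hI h0 (isPure_of_mono hF.2.2.1 q))
  have h1 := redLE_of_epi_isSemistable k hL hE p hI h0
  have h2 := redLE_of_mono_isSemistable k hL hF q hI h0
  exact ⟨redEq_of_le_of_le (redLE_trans hIpos.le hFpos hEpos.le h2 (redLE_of_eq (redEq_symm hred))) h1,
    redEq_of_le_of_le h2 (redLE_trans hFpos.le hEpos hIpos.le (redLE_of_eq (redEq_symm hred)) h1)⟩

include hL in
/-- Kernel and cokernel of a map between semistable modules of one slope. -/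
theorem kernel_cokernel_onSlope {E F : X.Modules} (hE : ShStab.IsSemistable k X L E d)
    (hF : ShStab.IsSemistable k X L F d) (hred : RedEq d (hilb k L E) (hilb k L F)) (f : E ⟶ F) :
    (IsZero (kernel f) ∨ (ShStab.IsSemistable k X L (kernel f) d ∧
      RedEq d (hilb k L (kernel f)) (hilb k L E))) ∧
    (IsZero (cokernel f) ∨ (ShStab.IsSemistable k X L (cokernel f) d ∧
      RedEq d (hilb k L (cokernel f)) (hilb k L E))) := by
  have := EulerChar.isNoetherian k (X := X)
  let p := Abelian.factorThruImage f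
  let q := Abelian.image.ι f
  have hfac : p ≫ q = f := Abelian.image.fac f
  have hI : Coh.IsCoh (Abelian.image f) := CohDev.isCoh_image f hE.1 hF.1.1
  obtain ⟨hIE, hIF⟩ := redEq_image k hL hE hF hred p q hI
  refine ⟨or_iff_not_imp_left.2 fun h0 => ?_, or_iff_not_imp_left.2 fun h0 => ?_⟩
  · have hK := isCoh_of_kernel k f hE.1 hF.1
    have hKred : RedEq d (hilb k L (kernel f)) (hilb k L E) := by
      have e : kernel f ≅ kernel p := kernelIsoOfEq hfac.symm ≪≫ kernelCompMono p q
      rw [hilb_iso k hL e hK, show hilb k L (kernel p) = hilb k L E - hilb k L (Abelian.image f) from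
        eq_sub_of_add_eq (hilb_epi k hL p hE.1 hI).symm]
      exact redEq_sub rfl hIE
    exact ⟨isSemistable_sub_onSlope k hL hE (kernel.ι f) hK h0 hKred, hKred⟩
  · have e : cokernel f ≅ cokernel q := cokernelIsoOfEq hfac.symm ≪≫ cokernelEpiComp p q
    obtain ⟨hss, hCF⟩ := isSemistable_quot_onSlope k hL hF q hI hIF e h0
    exact ⟨hss, redEq_trans (alpha_hilb_pos k hL hF.1 (dim_of_isPure hF.1 hF.2.1 hF.2.2.1)).ne' hCF hred⟩

end Groth.Agent.ShStabLib
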