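import Groth.Agent.HilbPolyX.Sheaf
import Groth.Agent.CohDerLib.SubobjJH
import Groth.Agent.QCohGen.Noeth

/-!
# Coherent subobjects of a coherent module and their Hilbert polynomials
-/

universe u

open CategoryTheory CategoryTheory.Limits AlgebraicGeometry TopologicalSpace
open Groth.Agent.HilbPolyX
open Groth.Agent.SubElem
open Groth.Agent.CohDerLib.SubobjJH (comp_π_eq_zero_iff second_iso)

set_option linter.style.haveILetI false

noncomputable section

namespace Groth.Agent.ShStabLib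

variable {X : Scheme.{u}} {E : X.Modules}

/-- A subobject is coherent. -/
abbrev IsCohSub (S : Subobject E) : Prop := Coh.IsCoh (S : X.Modules)

/-- The ascending chain condition on coherent subobjects. -/
theorem wellFoundedGT_cohSub [IsNoetherian X] (hE : Coh.IsCoh E) :
    WellFoundedGT {S : Subobject E // IsCohSub S} := by
  haveI : E.IsQuasicoherent := hE.1
  haveI := hE.2
  obtain ⟨σ, hσ⟩ := isCompact_univ.elim_finite_subcover
    (fun W : X.affineOpens => ((W : X.Opens) : Set X)) (fun W => (W : X.Opens).isOpen) fun x _ => by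
      obtain ⟨W, hW, hx, -⟩ := exists_isAffineOpen_mem_and_subset (X := X) (Opens.mem_top x)
      exact Set.mem_iUnion.mpr ⟨⟨W, hW⟩, hx⟩
  haveI : ∀ W : σ, WellFoundedGT (Submodule Γ(X, W.1.1) Γ(E, W.1.1)) := fun W ↦ by
    haveI := IsLocallyNoetherian.component_noetherian W.1
    haveI := QCoh.finite_sections_of_isFiniteType E W.1.2
    infer_instance
  haveI : WellFoundedGT (∀ W : σ, Submodule Γ(X, W.1.1) Γ(E, W.1.1)) :=
    ⟨(Pi.wellFoundedLT (α := fun W : σ ↦ (Submodule Γ(X, W.1.1) Γ(E, W.1.1))ᵒᵈ)).wf⟩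
  let Φ : {S : Subobject E // IsCohSub S} → ∀ W : σ, Submodule Γ(X, W.1.1) Γ(E, W.1.1) :=
    fun T W ↦ LinearMap.range (QCohGen.Noeth.appLin T.1.arrow W.1.1)
  have hle : ∀ T T', Φ T ≤ Φ T' → T ≤ T' := fun T T' h ↦ by
    haveI : ((T.1 : X.Modules)).IsQuasicoherent := T.2.1
    have hz : T.1.arrow ≫ cokernel.π T'.1.arrow = 0 := QCohGen.Noeth.eq_zero_of_cover _ fun x ↦ by
      obtain ⟨W, hW, hx⟩ := Set.mem_iUnion₂.mp (hσ (Set.mem_univ x))
      refine ⟨W, hx, fun t ↦ ?_⟩
      obtain ⟨v, hv⟩ := h ⟨W, hW⟩ ⟨t, rfl⟩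
      change T'.1.arrow.app W.1 v = T.1.arrow.app W.1 t at hv
      rw [Scheme.Modules.Hom.comp_app, ConcreteCategory.comp_apply, ← hv,
        ← ConcreteCategory.comp_apply, ← Scheme.Modules.Hom.comp_app, cokernel.condition]
      rfl
    exact Subobject.le_of_comm (Abelian.monoLift T'.1.arrow T.1.arrow hz)
      (Abelian.monoLift_comp _ _ _)
  have hmono : Monotone Φ := fun T T' h W ↦ by
    rintro _ ⟨t, rfl⟩
    refine ⟨(Subobject.ofLE T.1 T'.1 h).app W.1.1 t, ?_⟩
    exact congr(($(Subobject.ofLE_arrow (show T.1 ≤ T'.1 from h))).app W.1.1 t)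
  exact ⟨(show StrictMono Φ from fun T T' h ↦
    lt_of_le_of_ne (hmono h.le) fun e ↦ h.not_ge (hle _ _ e.ge)).wellFoundedGT.wf⟩

theorem isZero_bot : IsZero ((⊥ : Subobject E) : X.Modules) :=
  (isZero_zero _).of_iso Subobject.botCoeIsoZero

theorem isCohSub_bot : IsCohSub (⊥ : Subobject E) := CohDev.isCoh_of_isZero isZero_bot

theorem isCohSub_top (hE : Coh.IsCoh E) : IsCohSub (⊤ : Subobject E) :=
  CohDev.isCoh_of_iso (asIso (⊤ : Subobject E).arrow).symm hE

theorem isCohSub_mk {F : X.Modules} (ι : F ⟶ E) [Mono ι] (hF : Coh.IsCoh F) :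
    IsCohSub (Subobject.mk ι) :=
  CohDev.isCoh_of_iso (Subobject.underlyingIso ι).symm hF

theorem eq_bot_of_isZero {S : Subobject E} (h : IsZero (S : X.Modules)) : S = ⊥ := by
  rw [← Subobject.mk_arrow S, Subobject.mk_eq_bot_iff_zero]
  exact h.eq_of_src _ _

/-- The inclusion is an isomorphism iff the subobjects agree. -/
theorem eq_of_isIso_ofLE {S T : Subobject E} (h : S ≤ T) [IsIso (Subobject.ofLE S T h)] : S = T :=
  le_antisymm h (Subobject.le_of_comm (inv (Subobject.ofLE S T h))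
    (by rw [IsIso.inv_comp_eq, Subobject.ofLE_arrow]))

/-- The quotient `T/S`. -/
abbrev quo {S T : Subobject E} (h : S ≤ T) : X.Modules := cokernel (Subobject.ofLE S T h)

theorem isZero_quo_iff {S T : Subobject E} (h : S ≤ T) : IsZero (quo h) ↔ S = T := by
  refine ⟨fun hz => ?_, fun e => ?_⟩
  · haveI := HilbPolyX.isIso_of_mono_of_cokernel _ hz
    exact eq_of_isIso_ofLE h
  · subst e
    haveI : IsIso (Subobject.ofLE S S h) := by rw [Subobject.ofLE_refl]; infer_instance
    exact HilbPolyX.isZero_cokernel_of_isIso _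

theorem isCoh_quo {S T : Subobject E} (h : S ≤ T) (hS : IsCohSub S) (hT : IsCohSub T) :
    Coh.IsCoh (quo h) :=
  HilbPolyX.isCoh_of_monoCokernel _ hS hT

/-- The pullback of a submodule `ι : G ⟶ T/S` to a subobject between `S` and `T`. -/
def lift {S T : Subobject E} (h : S ≤ T) {G : X.Modules} (ι : G ⟶ quo h) : Subobject E :=
  Subobject.mk (kernel.ι (cokernel.π (Subobject.ofLE S T h) ≫ cokernel.π ι) ≫ T.arrow)

theorem le_lift {S T : Subobject E} (h : S ≤ T) {G : X.Modules} (ι : G ⟶ quo h) : S ≤ lift h ι :=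
  Subobject.le_mk_of_comm (kernel.lift _ (Subobject.ofLE S T h)
      (by rw [cokernel.condition_assoc, zero_comp]))
    (by rw [kernel.lift_ι_assoc, Subobject.ofLE_arrow])

theorem lift_le {S T : Subobject E} (h : S ≤ T) {G : X.Modules} (ι : G ⟶ quo h) : lift h ι ≤ T :=
  Subobject.mk_le_of_comm (kernel.ι _) rfl

/-- The comparison of quotients. -/
def quoMap {S U T : Subobject E} (hSU : S ≤ U) (hUT : U ≤ T) : quo hSU ⟶ quo (hSU.trans hUT) :=
  cokernel.map _ _ (𝟙 _) (Subobject.ofLE U T hUT) (by simp)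

instance mono_quoMap {S U T : Subobject E} (hSU : S ≤ U) (hUT : U ≤ T) : Mono (quoMap hSU hUT) := by
  refine Preadditive.mono_of_cancel_zero _ fun {W} w hw => ?_
  obtain ⟨W', p, hp, t, ht⟩ := surjective_up_to_refinements_of_epi
    (cokernel.π (Subobject.ofLE S U hSU)) w
  have hf : cokernel.π (Subobject.ofLE S U hSU) ≫ quoMap hSU hUT =
      Subobject.ofLE U T hUT ≫ cokernel.π (Subobject.ofLE S T (hSU.trans hUT)) :=
    cokernel.π_desc _ _ _
  have h1 : (t ≫ Subobject.ofLE U T hUT) ≫ cokernel.π (Subobject.ofLE S T (hSU.trans hUT)) = 0 := by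
    rw [Category.assoc, ← hf, ← reassoc_of% ht, hw, comp_zero]
  have h2 := (comp_π_eq_zero_iff _ _).1 h1
  rw [Category.assoc, Subobject.ofLE_arrow] at h2
  rw [← cancel_epi p, comp_zero, ht]
  exact (comp_π_eq_zero_iff hSU t).2 h2

/-- `S ⊓ T` as a kernel. -/
theorem inf_eq_mk (S T : Subobject E) :
    S ⊓ T = Subobject.mk (kernel.ι (T.arrow ≫ cokernel.π S.arrow) ≫ T.arrow) := by
  refine le_antisymm (Subobject.le_mk_of_comm (kernel.lift _ (Subobject.ofLE _ T inf_le_right) ?_) ?_)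
    (le_inf ?_ (Subobject.mk_le_of_comm (kernel.ι _) rfl))
  · rw [← Category.assoc, Subobject.ofLE_arrow, ← Subobject.ofLE_arrow (inf_le_left : S ⊓ T ≤ S),
      Category.assoc, cokernel.condition, comp_zero]
  · rw [kernel.lift_ι_assoc, Subobject.ofLE_arrow]
  · exact Subobject.mk_le_of_comm (Abelian.monoLift S.arrow (kernel.ι _ ≫ T.arrow)
      (by rw [Category.assoc, kernel.condition])) (Abelian.monoLift_comp _ _ _)

section Proper

variable (k : Type u) [Field k] [X.Over (Spec (CommRingCat.of k))]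
  [IsProper (X ↘ Spec (CommRingCat.of k))]

include k in
theorem isCohSub_inf (hE : Coh.IsCoh E) {S T : Subobject E} (hS : IsCohSub S) (hT : IsCohSub T) :
    IsCohSub (S ⊓ T) := by
  rw [inf_eq_mk]
  exact isCohSub_mk _ (HilbPolyX.isCoh_of_kernel k _ hT (HilbPolyX.isCoh_of_monoCokernel _ hS hE))

include k in
theorem isCohSub_sup (hE : Coh.IsCoh E) {S T : Subobject E} (hS : IsCohSub S) (hT : IsCohSub T) :
    IsCohSub (S ⊔ T) := by
  haveI := EulerChar.isNoetherian k (X := X)
  obtain ⟨e⟩ := second_iso S T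
  exact CohDev.isCoh_of_shortExact
    (HilbPolyX.shortExact_of_mono (Subobject.ofLE S (S ⊔ T) le_sup_left)) hS
    (CohDev.isCoh_of_iso e (isCoh_quo inf_le_right (isCohSub_inf k hE hS hT) hT))

include k in
theorem isCohSub_lift {S T : Subobject E} (h : S ≤ T) (hS : IsCohSub S) (hT : IsCohSub T)
    {G : X.Modules} (ι : G ⟶ quo h) (hG : Coh.IsCoh G) : IsCohSub (lift h ι) :=
  isCohSub_mk _ (HilbPolyX.isCoh_of_kernel k _ hT
    (HilbPolyX.isCoh_of_monoCokernel ι hG (isCoh_quo h hS hT)))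

variable (L : X.Modules)

/-- The Hilbert polynomial of a subobject. -/
abbrev hs (S : Subobject E) : Polynomial ℚ := hilb k L (S : X.Modules)

variable {L} (hL : CohB1.IsAmple L)

include hL in
theorem hs_bot : hs k L (⊥ : Subobject E) = 0 := hilb_eq_zero_of_isZero k hL isZero_bot

include hL in
theorem hs_top (hE : Coh.IsCoh E) : hs k L (⊤ : Subobject E) = hilb k L E :=
  hilb_iso k hL (asIso (⊤ : Subobject E).arrow) (isCohSub_top hE)

include hL in
theorem hs_mk {F : X.Modules} (ι : F ⟶ E) [Mono ι] (hF : Coh.IsCoh F) :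
    hs k L (Subobject.mk ι) = hilb k L F :=
  hilb_iso k hL (Subobject.underlyingIso ι) (isCohSub_mk ι hF)

include hL in
theorem hilb_quo {S T : Subobject E} (h : S ≤ T) (hS : IsCohSub S) (hT : IsCohSub T) :
    hilb k L (quo h) = hs k L T - hs k L S :=
  eq_sub_of_add_eq' (hilb_mono k hL (Subobject.ofLE S T h) hS hT).symm

include hL in
theorem hs_inf_add_sup (hE : Coh.IsCoh E) {S T : Subobject E} (hS : IsCohSub S) (hT : IsCohSub T) :
    hs k L (S ⊓ T) + hs k L (S ⊔ T) = hs k L S + hs k L T := by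
  obtain ⟨e⟩ := second_iso S T
  have hi := isCohSub_inf k hE hS hT
  have h := hilb_iso k hL e (isCoh_quo inf_le_right hi hT)
  rw [hilb_quo k hL inf_le_right hi hT, hilb_quo k hL le_sup_left hS (isCohSub_sup k hE hS hT)] at h
  linear_combination -h

include hL in
theorem hs_lift {S T : Subobject E} (h : S ≤ T) (hS : IsCohSub S) (hT : IsCohSub T)
    {G : X.Modules} (ι : G ⟶ quo h) [Mono ι] (hG : Coh.IsCoh G) :
    hs k L (lift h ι) = hs k L S + hilb k L G := by
  have hQ := isCoh_quo h hS hT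
  have hC := HilbPolyX.isCoh_of_monoCokernel ι hG hQ
  rw [hs, lift]
  have hK := HilbPolyX.isCoh_of_kernel k (cokernel.π (Subobject.ofLE S T h) ≫ cokernel.π ι) hT hC
  rw [hilb_iso k hL (Subobject.underlyingIso _) (isCohSub_mk _ hK)]
  have h1 := hilb_epi k hL (cokernel.π (Subobject.ofLE S T h) ≫ cokernel.π ι) hT hC
  have h2 := hilb_mono k hL ι hG hQ
  have h3 := hilb_mono k hL (Subobject.ofLE S T h) hS hT
  simp only [hs]
  linear_combination h1.symm.trans (by rw [h3, h2] : hilb k L (T : X.Modules) =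
    hilb k L (S : X.Modules) + (hilb k L G + hilb k L (cokernel ι)))

include hL in
theorem eq_of_le_of_hs_eq {S T : Subobject E} (h : S ≤ T) (hS : IsCohSub S) (hT : IsCohSub T)
    (he : hs k L S = hs k L T) : S = T :=
  (isZero_quo_iff h).1 (isZero_of_hilb_eq_zero k hL (isCoh_quo h hS hT)
    (by rw [hilb_quo k hL h hS hT, he, sub_self]))

end Proper

end Groth.Agent.ShStabLib
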